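import Mathlib
import Cfsg.Agent.Lib.Conjugacy.FusionSections

/-!
Conjugation maps realised inside a given subgroup `H`; a map of largest domain that is not so
realised may be taken to be an automorphism of a fully normalized subgroup of the Sylow subgroup.
-/

set_option autoImplicit false
set_option linter.unusedSectionVars false

namespace CfsgLib.ZJFail

open CfsgLib.Conjugacy

variable {X Γ : Type*} [Group X] [Group Γ]

/-- `g` acts on `A` as an element of `H` does. -/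
def Good (ι : X →* Γ) (H : Subgroup Γ) (A : Subgroup X) (g : X) : Prop :=
  ∃ h ∈ H, ∀ a ∈ A, ι (g * a * g⁻¹) = h * ι a * h⁻¹

namespace Good

variable {ι : X →* Γ} {H : Subgroup Γ} {A B : Subgroup X} {g k : X}

theorem of_mem (A : Subgroup X) (hg : ι g ∈ H) : Good ι H A g :=
  ⟨ι g, hg, fun a _ => by simp⟩

theorem mono (h : Good ι H A g) (hBA : B ≤ A) : Good ι H B g := by
  obtain ⟨x, hx, hxa⟩ := h
  exact ⟨x, hx, fun a ha => hxa a (hBA ha)⟩

theorem comp (h1 : Good ι H A g) (h2 : Good ι H (cj g A) k) : Good ι H A (k * g) := by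
  obtain ⟨x, hx, hxa⟩ := h1
  obtain ⟨y, hy, hya⟩ := h2
  refine ⟨y * x, H.mul_mem hy hx, fun a ha => ?_⟩
  rw [show k * g * a * (k * g)⁻¹ = k * (g * a * g⁻¹) * k⁻¹ by group, hya _ (conj_mem_cj ha),
    hxa a ha]
  group

theorem congr (h : Good ι H A g) (e : ∀ a ∈ A, g * a * g⁻¹ = k * a * k⁻¹) : Good ι H A k := by
  obtain ⟨x, hx, hxa⟩ := h
  exact ⟨x, hx, fun a ha => by rw [← e a ha]; exact hxa a ha⟩

theorem symm (h : Good ι H A g) : Good ι H (cj g A) g⁻¹ := by
  obtain ⟨x, hx, hxa⟩ := h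
  refine ⟨x⁻¹, H.inv_mem hx, fun a ha => ?_⟩
  obtain ⟨b, hb, rfl⟩ := ha
  simp only [MulEquiv.coe_toMonoidHom, MulAut.conj_apply]
  rw [hxa b hb, show g⁻¹ * (g * b * g⁻¹) * g⁻¹⁻¹ = b by group]
  group

/-- Transport along a map already known to be good. -/
theorem of_conj {y : X} (hy : Good ι H A y) (hy' : Good ι H (cj g A) y)
    (h : Good ι H (cj y A) (y * g * y⁻¹)) : Good ι H A g := by
  have h1 : Good ι H A (y * g) := by
    have h0 := hy.comp h
    rwa [show y * g * y⁻¹ * y = y * g by group] at h0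
  have h2 : Good ι H (cj (y * g) A) y⁻¹ := by
    rw [← cj_cj]
    exact hy'.symm
  have h3 := h1.comp h2
  rwa [inv_mul_cancel_left] at h3

end Good

theorem cj_le_of_le_normalizer {g : X} {A T : Subgroup X}
    (hg : g ∈ Subgroup.normalizer (T : Set X)) (h : A ≤ T) : cj g A ≤ T :=
  (cj_mono g h).trans (cj_eq_of_mem_normalizer hg).le

theorem mem_normalizer_cj {n k : X} {Q : Subgroup X} (hn : n ∈ Subgroup.normalizer (Q : Set X)) :
    k * n * k⁻¹ ∈ Subgroup.normalizer (cj k Q : Set X) := by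
  rw [Subgroup.mem_normalizer_iff_map_conj_eq]
  show cj (k * n * k⁻¹) (cj k Q) = cj k Q
  rw [cj_cj, show k * n * k⁻¹ * k = k * n by group, ← cj_cj, cj_eq_of_mem_normalizer hn]

variable [Finite X] {p : ℕ} [hp : Fact p.Prime]

/-- A conjugation map of `X` between subgroups of a Sylow subgroup, split along a normal subgroup. -/
theorem good_of_frattini (ι : X →* Γ) (H : Subgroup Γ) (T : Sylow p X) (K : Subgroup X) [K.Normal]
    (h1 : ∀ (B : Subgroup X) (y : X), y ∈ K ⊔ (T : Subgroup X) → B ≤ T → cj y B ≤ T → Good ι H B y)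
    (h2 : ∀ (B : Subgroup X) (y : X),
      y ∈ Subgroup.normalizer (((T : Subgroup X) ⊓ K : Subgroup X) : Set X) →
        B ≤ T → cj y B ≤ T → Good ι H B y)
    {A : Subgroup X} {g : X} (hA : A ≤ T) (hgA : cj g A ≤ T) : Good ι H A g := by
  set N := Subgroup.normalizer (((T : Subgroup X) ⊓ K : Subgroup X) : Set X) with hN
  let P : Sylow p K := IsPGroup.toSylow (T.2.comap_of_injective K.subtype K.subtype_injective)
    fun h => T.not_dvd_index (h.trans (Transfer.relIndex_dvd_index_of_normal (T : Subgroup X) K))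
  have hfr := Sylow.normalizer_sup_eq_top P
  rw [show (P : Subgroup K).map K.subtype = (T : Subgroup X) ⊓ K from
    Subgroup.subgroupOf_map_subtype (T : Subgroup X) K] at hfr
  obtain ⟨c, hc, n, hn, rfl⟩ := Subgroup.mem_sup_of_normal_left.mp
    (show g ∈ K ⊔ N by rw [sup_comm]; exact hfr.ge (Subgroup.mem_top g))
  have hTN : (T : Subgroup X) ≤ N :=
    Coprime.le_normalizer_inf_of_le Subgroup.le_normalizer Subgroup.le_normalizer_of_normal
  have hnA : cj n A ≤ (K ⊔ (T : Subgroup X)) ⊓ N := by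
    refine le_inf ?_ ?_
    · rintro z hz
      have h' : c * z * c⁻¹ ∈ (T : Subgroup X) := by
        refine hgA ?_
        rw [← cj_cj]
        exact conj_mem_cj hz
      have : z = c⁻¹ * (c * z * c⁻¹) * c := by group
      rw [this]
      exact Subgroup.mul_mem _ (Subgroup.mul_mem _ (Subgroup.mem_sup_left (K.inv_mem hc))
        (Subgroup.mem_sup_right h')) (Subgroup.mem_sup_left hc)
    · rintro _ ⟨a, ha, rfl⟩
      exact N.mul_mem (N.mul_mem hn (hTN (hA ha))) (N.inv_mem hn)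
  obtain ⟨y, hy, hyA⟩ := exists_cj_le T (le_inf le_sup_right hTN) hnA ((T.2.to_le hA).map _)
  rw [cj_cj] at hyA
  have g1 := h2 A (y * n) (N.mul_mem hy.2 hn) hA hyA
  have g2 := h1 (cj (y * n) A) (c * y⁻¹)
    (Subgroup.mul_mem _ (Subgroup.mem_sup_left hc) (Subgroup.inv_mem _ hy.1)) hyA
    (by rw [cj_cj, show c * y⁻¹ * (y * n) = c * n by group]; exact hgA)
  have h3 := g1.comp g2
  rwa [show c * y⁻¹ * (y * n) = c * n by group] at h3

/-- A map of largest domain that is not good, as an automorphism of a fully normalized subgroup. -/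
theorem exists_max_bad (ι : X →* Γ) (H : Subgroup Γ) (T : Sylow p X)
    (hN : ∀ n ∈ Subgroup.normalizer ((T : Subgroup X) : Set X), ι n ∈ H) {A₀ : Subgroup X} {g₀ : X}
    (hA₀ : A₀ ≤ T) (hgA₀ : cj g₀ A₀ ≤ T) (hbad₀ : ¬ Good ι H A₀ g₀) :
    ∃ (R : Subgroup X) (x : X), R < T ∧ x ∈ Subgroup.normalizer (R : Set X) ∧ ¬ Good ι H R x ∧
      (∀ (B : Subgroup X) (g : X), B ≤ T → cj g B ≤ T → Nat.card R < Nat.card B → Good ι H B g) ∧
      (∀ Q : Subgroup X, IsPGroup p Q → Q ≤ Subgroup.normalizer (R : Set X) →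
        ∃ n ∈ Subgroup.normalizer (R : Set X), cj n Q ≤ (T : Subgroup X)) := by
  classical
  haveI := Fintype.ofFinite (Subgroup X)
  obtain ⟨Q, hQ, hmax⟩ := Finset.exists_max_image
    (Finset.univ.filter fun A : Subgroup X => A ≤ (T : Subgroup X) ∧
      ∃ g : X, cj g A ≤ (T : Subgroup X) ∧ ¬ Good ι H A g)
    (fun A => Nat.card A) ⟨A₀, Finset.mem_filter.mpr ⟨Finset.mem_univ _, hA₀, g₀, hgA₀, hbad₀⟩⟩
  simp only [Finset.mem_filter, Finset.mem_univ, true_and] at hQ hmax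
  obtain ⟨hQT, g, hgQ, hbad⟩ := hQ
  have hbig : ∀ (B : Subgroup X) (k : X), B ≤ T → cj k B ≤ T → Nat.card Q < Nat.card B →
      Good ι H B k := fun B k hB hkB hlt => by
    by_contra h
    exact absurd (hmax B ⟨hB, k, hkB, h⟩) (not_le.mpr hlt)
  have hne : Q ≠ (T : Subgroup X) := by
    rintro rfl
    exact hbad (.of_mem _ (hN g (Subgroup.mem_normalizer_iff_map_conj_eq.mpr
      (Subgroup.eq_of_le_of_card_ge hgQ (card_cj g _).ge))))
  have hlt := Transfer.lt_inf_normalizer T.2 (lt_of_le_of_ne hQT hne)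
  set N₀ := Subgroup.normalizer (Q : Set X) with hN₀
  obtain ⟨TN, hTN⟩ := ((T.2.to_le (inf_le_left : (T : Subgroup X) ⊓ N₀ ≤ T)).comap_of_injective
    N₀.subtype N₀.subtype_injective).exists_le_sylow
  obtain ⟨y, hy⟩ := Transfer.exists_map_conj_le_sylow (TN.2.map N₀.subtype) T
  have hPTN : (T : Subgroup X) ⊓ N₀ ≤ (TN : Subgroup N₀).map N₀.subtype :=
    fun z hz => ⟨⟨z, hz.2⟩, hTN hz, rfl⟩
  have hygood : Good ι H Q y :=
    (hbig _ y inf_le_left ((cj_mono y hPTN).trans hy) (card_lt_card hlt)).mono hlt.le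
  set R := cj y Q with hR
  set NR := Subgroup.normalizer (R : Set X) with hNR
  have hRT : R ≤ (T : Subgroup X) := (cj_mono y (hlt.le.trans hPTN)).trans hy
  have hsyl : ∀ Q' : Subgroup X, IsPGroup p Q' → Q' ≤ NR → ∃ n ∈ NR, cj n Q' ≤ (T : Subgroup X) := by
    intro Q' hQ' hQ'N
    have hback : cj y⁻¹ Q' ≤ N₀ := by
      rintro _ ⟨z, hz, rfl⟩
      have h := mem_normalizer_cj (k := y⁻¹) (hQ'N hz)
      rwa [hR, cj_cj, inv_mul_cancel, cj_one] at h
    obtain ⟨T', hT'⟩ := ((hQ'.map (MulAut.conj y⁻¹).toMonoidHom).comap_of_injective N₀.subtype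
      N₀.subtype_injective).exists_le_sylow
    obtain ⟨m, hm⟩ := MulAction.exists_smul_eq N₀ T' TN
    refine ⟨y * m * y⁻¹, by rw [hNR, hR]; exact mem_normalizer_cj m.2, ?_⟩
    rintro _ ⟨z, hz, rfl⟩
    have hz' : y⁻¹ * z * y ∈ cj y⁻¹ Q' := ⟨z, hz, by simp⟩
    have h1 : m * ⟨y⁻¹ * z * y, hback hz'⟩ * m⁻¹ ∈ (TN : Subgroup N₀) := by
      rw [← hm]
      exact ⟨⟨_, hback hz'⟩, hT' hz', rfl⟩
    have h2 := hy (conj_mem_cj (g := y) (Subgroup.mem_map_of_mem N₀.subtype h1))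
    simp only [MulEquiv.coe_toMonoidHom, MulAut.conj_apply]
    convert h2 using 1
    simp only [Subgroup.coe_subtype, Subgroup.coe_mul, Subgroup.coe_inv]
    group
  have hcardR : Nat.card R = Nat.card Q := card_cj y Q
  set Q' := cj g Q with hQ'
  have hQ'card : Nat.card Q' = Nat.card Q := card_cj g Q
  have hQ'ne : Q' ≠ (T : Subgroup X) := fun e => hne (Subgroup.eq_of_le_of_card_ge hQT
    (by rw [← hQ'card, e]))
  have hlt' := Transfer.lt_inf_normalizer T.2 (lt_of_le_of_ne hgQ hQ'ne)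
  set P' := (T : Subgroup X) ⊓ Subgroup.normalizer (Q' : Set X) with hP'
  have hin : cj (y * g⁻¹) P' ≤ NR := by
    rintro _ ⟨z, hz, rfl⟩
    have h := mem_normalizer_cj (k := y * g⁻¹) hz.2
    rwa [hQ', cj_cj, inv_mul_cancel_right] at h
  obtain ⟨n, hn, hnP⟩ := hsyl _ ((T.2.to_le inf_le_left).map _) hin
  rw [cj_cj] at hnP
  have hy1 : Good ι H P' (n * (y * g⁻¹)) := hbig _ _ inf_le_left hnP (hQ'card ▸ card_lt_card hlt')
  refine ⟨R, n, lt_of_le_of_ne hRT (fun e => hne (Subgroup.eq_of_le_of_card_ge hQT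
    (by rw [← hcardR, e]))), hn, fun hgood => hbad ?_,
    fun B k hB hkB hl => hbig B k hB hkB (hcardR ▸ hl), hsyl⟩
  have h1 : Good ι H Q (n * y) := hygood.comp hgood
  have hQ'P : Q' ≤ P' := hlt'.le
  have h2 : Good ι H (cj (n * y) Q) (n * (y * g⁻¹))⁻¹ := by
    have h := (hy1.mono hQ'P).symm
    rwa [hQ', cj_cj, show n * (y * g⁻¹) * g = n * y by group] at h
  have h3 := h1.comp h2
  rwa [show (n * (y * g⁻¹))⁻¹ * (n * y) = g by group] at h3

end CfsgLib.ZJFail
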