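import Mathlib
import Cfsg.Agent.Lib.ZJFail.Good

/-!
A variant of Baer's theorem: `C` contains a Sylow subgroup, `Sig` is an invariant set of
`p`-elements not inside `C`. There are a `p`-subgroup `R ≤ T` and `c, d` normalizing it, `c` in
`T`, `d` outside `C`, such that every `p`-subgroup containing `R` and `c` meets `Sig` inside `C`;
and fusion automorphisms of such subgroups are good.
-/

set_option autoImplicit false
set_option linter.unusedSectionVars false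

namespace CfsgLib.ZJFail

open CfsgLib.Conjugacy

variable {X : Type*} [Group X] [Finite X] {p : ℕ} [hp : Fact p.Prime]

/-- Among generators forming an invariant set, one outside a proper subgroup normalizes it, if the
subgroup is generated by some of them. -/
theorem exists_gen_normalizing {P R : Subgroup X} (hP : IsPGroup p P) (W : Set X)
    (hW : Subgroup.closure W = P) (hWinv : ∀ s ∈ P, ∀ w ∈ W, s * w * s⁻¹ ∈ W)
    (hR : R = Subgroup.closure (W ∩ R)) (hlt : R < P) :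
    ∃ w ∈ W, w ∉ R ∧ w ∈ Subgroup.normalizer (R : Set X) := by
  set N := P ⊓ Subgroup.normalizer (R : Set X) with hN
  have hRN : R < N := Transfer.lt_inf_normalizer hP hlt
  by_cases hNP : N = P
  · by_contra! h
    refine hlt.not_ge ?_
    rw [← hW, Subgroup.closure_le]
    intro w hw
    by_contra hwR
    have hwN : w ∈ N := hNP ▸ (hW ▸ Subgroup.subset_closure hw)
    exact h w hw hwR hwN.2
  have hltP : N < P := lt_of_le_of_ne inf_le_left hNP
  obtain ⟨s, hs, hsN⟩ := SetLike.exists_of_lt (Transfer.lt_inf_normalizer hP hltP)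
  by_contra! h
  refine hsN ⟨hs.1, Subgroup.mem_normalizer_iff_map_conj_eq.mpr ?_⟩
  show cj s R = R
  refine Subgroup.eq_of_le_of_card_ge ?_ (card_cj s R).ge
  rw [hR, cj, MonoidHom.map_closure, Subgroup.closure_le]
  rintro _ ⟨w, ⟨hwW, hwR⟩, rfl⟩
  show s * w * s⁻¹ ∈ Subgroup.closure (W ∩ (R : Set X))
  rw [← hR]
  have hwN : w ∈ N := hRN.le hwR
  have h1 : s * w * s⁻¹ ∈ N := (Subgroup.mem_normalizer_iff.mp hs.2 w).mp hwN
  by_contra hno
  exact h _ (hWinv s hs.1 w hwW) hno h1.2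

omit [Finite X] hp in
theorem closure_eq_closure_inter {Sig W : Set X} (hW : W ⊆ Sig) :
    Subgroup.closure W = Subgroup.closure (Sig ∩ Subgroup.closure W) :=
  le_antisymm (Subgroup.closure_mono fun _ hw => ⟨hW hw, Subgroup.subset_closure hw⟩)
    ((Subgroup.closure_le _).mpr fun _ hw => hw.2)

/-- **Variant of Baer's theorem.** -/
theorem exists_pair (T : Sylow p X) (C : Subgroup X) (hTC : (T : Subgroup X) ≤ C) (Sig : Set X)
    (hinv : ∀ g : X, ∀ e ∈ Sig, g * e * g⁻¹ ∈ Sig) (hpel : ∀ e ∈ Sig, IsPGroup p (Subgroup.zpowers e))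
    {e₀ : X} (he₀ : e₀ ∈ Sig) (he₀C : e₀ ∉ C) :
    ∃ (c d : X) (R : Subgroup X), c ∈ Sig ∧ c ∈ (T : Subgroup X) ∧
      c ∈ Subgroup.normalizer (R : Set X) ∧ R ≤ (T : Subgroup X) ∧ R = Subgroup.closure (Sig ∩ R) ∧
      d ∈ Sig ∧ d ∈ Subgroup.normalizer (R : Set X) ∧ d ∉ C ∧
      (∀ T' : Subgroup X, IsPGroup p T' → R ≤ T' → c ∈ T' → ∀ e ∈ Sig, e ∈ T' → e ∈ C) := by
  classical
  haveI := Fintype.ofFinite (Subgroup X)
  have hsub : ∀ T₁ : Subgroup X,
      Subgroup.closure (Sig ∩ ((T₁ ⊓ C : Subgroup X) : Set X)) ≤ T₁ ⊓ C :=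
    fun T₁ => (Subgroup.closure_le _).mpr fun _ h => h.2
  obtain ⟨T₁, hT₁, hmax⟩ := Finset.exists_max_image
    (Finset.univ.filter fun T₁ : Subgroup X => IsPGroup p T₁ ∧ ∃ e ∈ Sig, e ∈ T₁ ∧ e ∉ C)
    (fun T₁ => Nat.card (Subgroup.closure (Sig ∩ ((T₁ ⊓ C : Subgroup X) : Set X))))
    ⟨Subgroup.zpowers e₀, Finset.mem_filter.mpr
      ⟨Finset.mem_univ _, hpel _ he₀, e₀, he₀, Subgroup.mem_zpowers e₀, he₀C⟩⟩
  simp only [Finset.mem_filter, Finset.mem_univ, true_and] at hT₁ hmax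
  obtain ⟨hT₁p, e, heS, heT₁, heC⟩ := hT₁
  set R₁ := Subgroup.closure (Sig ∩ ((T₁ ⊓ C : Subgroup X) : Set X)) with hR₁
  obtain ⟨k, hk, hkR⟩ := exists_cj_le T hTC ((hsub T₁).trans inf_le_right)
    (hT₁p.to_le ((hsub T₁).trans inf_le_left))
  set T₂ := cj k T₁ with hT₂
  have hT₂p : IsPGroup p T₂ := hT₁p.map _
  have he₂ : k * e * k⁻¹ ∉ C := fun h => heC (by
    have := C.mul_mem (C.mul_mem (C.inv_mem hk) h) hk
    simpa [mul_assoc] using this)
  set R := Subgroup.closure (Sig ∩ ((T₂ ⊓ C : Subgroup X) : Set X)) with hR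
  have hRR : R ≤ cj k R₁ := by
    rw [hR, Subgroup.closure_le]
    rintro x ⟨hxS, hxT, hxC⟩
    rw [SetLike.mem_coe, mem_cj]
    refine Subgroup.subset_closure ⟨?_, mem_cj.mp hxT, C.mul_mem (C.mul_mem (C.inv_mem hk) hxC) hk⟩
    simpa using hinv k⁻¹ x hxS
  have hRR' : cj k R₁ ≤ R := by
    rw [hR₁, cj, MonoidHom.map_closure, Subgroup.closure_le]
    rintro _ ⟨x, ⟨hxS, hxT, hxC⟩, rfl⟩
    refine Subgroup.subset_closure ⟨hinv k x hxS, conj_mem_cj hxT, ?_⟩
    exact C.mul_mem (C.mul_mem hk hxC) (C.inv_mem hk)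
  have hcardR : Nat.card R = Nat.card R₁ := by
    rw [le_antisymm hRR hRR', card_cj]
  have hRT : R ≤ (T : Subgroup X) := hRR.trans hkR
  have hRgen : R = Subgroup.closure (Sig ∩ R) := closure_eq_closure_inter Set.inter_subset_left
  -- the largest possible intersection
  have key : ∀ T' : Subgroup X, IsPGroup p T' → R ≤ T' → ∀ c' ∈ Sig, c' ∈ T' → c' ∈ C → c' ∉ R →
      ∀ f ∈ Sig, f ∈ T' → f ∈ C := by
    intro T' hT' hRT' c' hc' hc'T hc'C hc'R f hf hfT
    by_contra hfC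
    have h1 := hmax T' ⟨hT', f, hf, hfT, hfC⟩
    have hle : R < Subgroup.closure (Sig ∩ ((T' ⊓ C : Subgroup X) : Set X)) := by
      refine lt_of_le_of_ne ?_ (fun e => hc'R ?_)
      · rw [hR, Subgroup.closure_le]
        exact fun x hx => Subgroup.subset_closure ⟨hx.1, hRT' (Subgroup.subset_closure hx), hx.2.2⟩
      · rw [e]
        exact Subgroup.subset_closure ⟨hc', hc'T, hc'C⟩
    have h2 := card_lt_card hle
    omega
  -- the element outside `C`
  obtain ⟨d, hd, hdR, hdN⟩ : ∃ d ∈ Sig ∩ (T₂ : Set X), d ∉ R ∧ d ∈ Subgroup.normalizer (R : Set X) := by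
    have hP : Subgroup.closure (Sig ∩ (T₂ : Set X)) ≤ T₂ :=
      (Subgroup.closure_le _).mpr fun _ h => h.2
    refine exists_gen_normalizing (hT₂p.to_le hP) _ rfl (fun s hs w hw =>
      ⟨hinv s w hw.1, T₂.mul_mem (T₂.mul_mem (hP hs) hw.2) (T₂.inv_mem (hP hs))⟩) ?_
      (lt_of_le_of_ne ?_ (fun h => he₂ ?_))
    · refine le_antisymm ?_ ((Subgroup.closure_le _).mpr fun _ hx => hx.2)
      rw [hR, Subgroup.closure_le]
      exact fun x hx => Subgroup.subset_closure ⟨⟨hx.1, hx.2.1⟩, Subgroup.subset_closure hx⟩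
    · exact Subgroup.closure_mono fun x hx => ⟨hx.1, hx.2.1⟩
    · have : k * e * k⁻¹ ∈ R := h ▸ Subgroup.subset_closure ⟨hinv k e heS, conj_mem_cj heT₁⟩
      exact ((hsub T₂) this).2
  have hdC : d ∉ C := fun h => hdR (Subgroup.subset_closure ⟨hd.1, hd.2, h⟩)
  -- the element of `T`
  set Q₀ := Subgroup.closure (Sig ∩ ((T : Subgroup X) : Set X)) with hQ₀
  have hQ₀T : Q₀ ≤ (T : Subgroup X) := (Subgroup.closure_le _).mpr fun _ h => h.2
  have hRQ : R ≤ Q₀ := hRgen.le.trans (Subgroup.closure_mono fun x hx => ⟨hx.1, hRT hx.2⟩)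
  have hne : R ≠ Q₀ := by
    intro hEq
    have hTN : (T : Subgroup X) ≤ Subgroup.normalizer (R : Set X) := by
      intro t ht
      rw [Subgroup.mem_normalizer_iff_map_conj_eq]
      show cj t R = R
      refine Subgroup.eq_of_le_of_card_ge ?_ (card_cj t R).ge
      rw [hEq, hQ₀, cj, MonoidHom.map_closure, Subgroup.closure_le]
      rintro _ ⟨w, ⟨hwS, hwT⟩, rfl⟩
      exact Subgroup.subset_closure
        ⟨hinv t w hwS, (T : Subgroup X).mul_mem ((T : Subgroup X).mul_mem ht hwT) ((T : Subgroup X).inv_mem ht)⟩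
    obtain ⟨y, hy, hyd⟩ := exists_cj_le T hTN (Q := Subgroup.zpowers d)
      (Subgroup.zpowers_le.mpr hdN) (hpel d hd.1)
    have h1 : y * d * y⁻¹ ∈ R := by
      rw [hEq]
      exact Subgroup.subset_closure ⟨hinv y d hd.1, hyd (conj_mem_cj (Subgroup.mem_zpowers d))⟩
    exact hdR ((Subgroup.mem_normalizer_iff.mp hy d).mpr h1)
  obtain ⟨c, hc, hcR, hcN⟩ : ∃ c ∈ Sig ∩ ((T : Subgroup X) : Set X),
      c ∉ R ∧ c ∈ Subgroup.normalizer (R : Set X) := by
    refine exists_gen_normalizing (T.2.to_le hQ₀T) _ rfl (fun s hs w hw =>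
      ⟨hinv s w hw.1, (T : Subgroup X).mul_mem ((T : Subgroup X).mul_mem (hQ₀T hs) hw.2)
        ((T : Subgroup X).inv_mem (hQ₀T hs))⟩) ?_ (lt_of_le_of_ne hRQ hne)
    refine le_antisymm ?_ ((Subgroup.closure_le _).mpr fun _ hx => hx.2)
    exact hRgen.le.trans (Subgroup.closure_mono fun x hx => ⟨⟨hx.1, hRT hx.2⟩, hx.2⟩)
  exact ⟨c, d, R, hc.1, hc.2, hcN, hRT, hRgen, hd.1, hdN, hdC,
    fun T' hT' hRT' hcT' => key T' hT' hRT' c hc.1 hcT' (hTC hc.2) hcR⟩

variable {Γ : Type*} [Group Γ]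

/-- Subgroups generated by `Sig` that lie in no `p`-subgroup meeting `Sig` outside `C` have good
normalizers. -/
theorem good_normalizer_of_top (ι : X →* Γ) (H : Subgroup Γ) (T : Sylow p X) (C : Subgroup X)
    (hTC : (T : Subgroup X) ≤ C) (Sig : Set X)
    (hinv : ∀ g : X, ∀ e ∈ Sig, g * e * g⁻¹ ∈ Sig)
    (hpel : ∀ e ∈ Sig, IsPGroup p (Subgroup.zpowers e))
    {e₀ : X} (he₀ : e₀ ∈ Sig) (he₀C : e₀ ∉ C)
    (hC : ∀ (B : Subgroup X) (y : X), y ∈ C → B ≤ T → cj y B ≤ T → Good ι H B y)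
    (hover : ∀ Y : Subgroup X, (T : Subgroup X) ≤ Y → Y ≠ ⊤ →
      ∀ (B : Subgroup X) (y : X), y ∈ Y → B ≤ T → cj y B ≤ T → Good ι H B y)
    {Q : Subgroup X} (hQT : Q ≤ T) (hgen : Q = Subgroup.closure (Sig ∩ Q))
    (htop : ∀ T' : Subgroup X, IsPGroup p T' → Q ≤ T' → ∀ e ∈ Sig, e ∈ T' → e ∈ C) :
    ∀ g ∈ Subgroup.normalizer (Q : Set X), Good ι H Q g := by
  induction hm : Nat.card (T : Subgroup X) - Nat.card Q using Nat.strong_induction_on generalizing Q with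
  | _ m IH =>
  intro g hg
  set Q₀ := Subgroup.closure (Sig ∩ ((T : Subgroup X) : Set X)) with hQ₀
  have hQ₀T : Q₀ ≤ (T : Subgroup X) := (Subgroup.closure_le _).mpr fun _ h => h.2
  have hQQ : Q ≤ Q₀ := hgen.le.trans (Subgroup.closure_mono fun x hx => ⟨hx.1, hQT hx.2⟩)
  have hgQ : cj g Q ≤ (T : Subgroup X) := (cj_eq_of_mem_normalizer hg).le.trans hQT
  rcases hQQ.eq_or_lt with hEq | hlt
  · refine hover (Subgroup.normalizer (Q : Set X)) ?_ ?_ Q g hg hQT hgQ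
    · intro t ht
      rw [Subgroup.mem_normalizer_iff_map_conj_eq]
      show cj t Q = Q
      refine Subgroup.eq_of_le_of_card_ge ?_ (card_cj t Q).ge
      rw [hEq, hQ₀, cj, MonoidHom.map_closure, Subgroup.closure_le]
      rintro _ ⟨w, ⟨hwS, hwT⟩, rfl⟩
      exact Subgroup.subset_closure
        ⟨hinv t w hwS, (T : Subgroup X).mul_mem ((T : Subgroup X).mul_mem ht hwT) ((T : Subgroup X).inv_mem ht)⟩
    · intro h
      obtain ⟨y, hy⟩ := Transfer.exists_map_conj_le_sylow (hpel e₀ he₀) T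
      have h1 : y * e₀ * y⁻¹ ∈ Q := by
        rw [hEq]
        exact Subgroup.subset_closure ⟨hinv y e₀ he₀, hy (conj_mem_cj (Subgroup.mem_zpowers e₀))⟩
      have h2 := (Subgroup.mem_normalizer_iff.mp (h ▸ Subgroup.mem_top y) e₀).mpr h1
      exact he₀C (hTC (hQT h2))
  obtain ⟨w, hw, hwQ, hwN⟩ : ∃ w ∈ Sig ∩ ((T : Subgroup X) : Set X),
      w ∉ Q ∧ w ∈ Subgroup.normalizer (Q : Set X) := by
    refine exists_gen_normalizing (T.2.to_le hQ₀T) _ rfl (fun s hs w hw =>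
      ⟨hinv s w hw.1, (T : Subgroup X).mul_mem ((T : Subgroup X).mul_mem (hQ₀T hs) hw.2)
        ((T : Subgroup X).inv_mem (hQ₀T hs))⟩) ?_ hlt
    refine le_antisymm ?_ ((Subgroup.closure_le _).mpr fun _ hx => hx.2)
    exact hgen.le.trans (Subgroup.closure_mono fun x hx => ⟨⟨hx.1, hQT hx.2⟩, hx.2⟩)
  set N := Subgroup.normalizer (Q : Set X) with hN
  set Ks := Subgroup.closure (Sig ∩ (N : Set X)) with hKs
  have hKsN : Ks ≤ N := (Subgroup.closure_le _).mpr fun _ h => h.2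
  haveI : (Ks.subgroupOf N).Normal := by
    refine Subgroup.normal_subgroupOf_iff_le_normalizer hKsN |>.mpr fun n hn => ?_
    rw [Subgroup.mem_normalizer_iff_map_conj_eq]
    show cj n Ks = Ks
    refine Subgroup.eq_of_le_of_card_ge ?_ (card_cj n Ks).ge
    rw [hKs, cj, MonoidHom.map_closure, Subgroup.closure_le]
    rintro _ ⟨x, ⟨hxS, hxN⟩, rfl⟩
    exact Subgroup.subset_closure ⟨hinv n x hxS, N.mul_mem (N.mul_mem hn hxN) (N.inv_mem hn)⟩
  have hKC : Ks ≤ C := by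
    rw [hKs, Subgroup.closure_le]
    rintro x ⟨hxS, hxN⟩
    exact htop (Q ⊔ Subgroup.zpowers x)
      ((T.2.to_le hQT).to_sup_of_normal_left' (hpel x hxS) (Subgroup.zpowers_le.mpr hxN))
      le_sup_left x hxS (Subgroup.mem_sup_right (Subgroup.mem_zpowers x))
  have hQKs : Q ≤ Ks := hgen.le.trans (Subgroup.closure_mono fun x hx =>
    ⟨hx.1, Subgroup.le_normalizer hx.2⟩)
  have hwKs : w ∈ Ks := Subgroup.subset_closure ⟨hw.1, hwN⟩
  -- a Sylow subgroup of `Ks` over `Q` and `w`, inside the Frattini decomposition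
  have hQw : IsPGroup p ↥(Q ⊔ Subgroup.zpowers w) :=
    (T.2.to_le hQT).to_sup_of_normal_left' (hpel w hw.1) (Subgroup.zpowers_le.mpr hwN)
  set K' := Ks.subgroupOf N with hK'
  obtain ⟨PK, hPK⟩ := ((hQw.comap_of_injective N.subtype N.subtype_injective).comap_of_injective
    K'.subtype K'.subtype_injective).exists_le_sylow
  set TK := ((PK : Subgroup K').map K'.subtype).map N.subtype with hTK
  have hTKp : IsPGroup p TK := (PK.2.map _).map _
  have hTKKs : TK ≤ Ks := by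
    rintro _ ⟨_, ⟨z, -, rfl⟩, rfl⟩
    exact z.2
  have hQwTK : Q ⊔ Subgroup.zpowers w ≤ TK := by
    intro z hz
    have hzK : z ∈ Ks := (sup_le hQKs (Subgroup.zpowers_le.mpr hwKs)) hz
    exact ⟨⟨z, hKsN hzK⟩, ⟨⟨⟨z, hKsN hzK⟩, hzK⟩, hPK hz, rfl⟩, rfl⟩
  set Q' := Subgroup.closure (Sig ∩ (TK : Set X)) with hQ'
  have hQ'TK : Q' ≤ TK := (Subgroup.closure_le _).mpr fun _ h => h.2
  have hQQ' : Q < Q' := by
    refine lt_of_le_of_ne ?_ (fun e => hwQ (e ▸ ?_))
    · exact hgen.le.trans (Subgroup.closure_mono fun x hx =>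
        ⟨hx.1, hQwTK (Subgroup.mem_sup_left hx.2)⟩)
    · exact Subgroup.subset_closure ⟨hw.1, hQwTK (Subgroup.mem_sup_right (Subgroup.mem_zpowers w))⟩
  obtain ⟨k₀, hk₀, hk₀T⟩ := exists_cj_le T hTC (hTKKs.trans hKC) hTKp
  have hQTK : Q ≤ TK := le_sup_left.trans hQwTK
  -- Frattini
  have hfr := Sylow.normalizer_sup_eq_top PK
  obtain ⟨⟨k, hkN⟩, hk, ⟨n, hnN⟩, hn, hkn⟩ := Subgroup.mem_sup_of_normal_left.mp
    (show (⟨g, hg⟩ : N) ∈ K' ⊔ Subgroup.normalizer (((PK : Subgroup K').map K'.subtype : Subgroup N) : Set N) by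
      rw [sup_comm]; exact hfr.ge (Subgroup.mem_top _))
  have hg' : g = k * n := (congrArg Subtype.val hkn).symm
  have hnTK : n ∈ Subgroup.normalizer (TK : Set X) :=
    Subgroup.le_normalizer_map N.subtype ⟨_, hn, rfl⟩
  have hnQ' : n ∈ Subgroup.normalizer (Q' : Set X) := by
    rw [Subgroup.mem_normalizer_iff_map_conj_eq]
    show cj n Q' = Q'
    refine Subgroup.eq_of_le_of_card_ge ?_ (card_cj n Q').ge
    rw [hQ', cj, MonoidHom.map_closure, Subgroup.closure_le]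
    rintro _ ⟨x, ⟨hxS, hxT⟩, rfl⟩
    exact Subgroup.subset_closure
      ⟨hinv n x hxS, (Subgroup.mem_normalizer_iff.mp hnTK x).mp hxT⟩
  -- the moved subgroup
  set Q'' := cj k₀ Q' with hQ''
  have hQ''T : Q'' ≤ (T : Subgroup X) := (cj_mono k₀ hQ'TK).trans hk₀T
  have hgood' : Good ι H Q'' (k₀ * n * k₀⁻¹) := by
    have hcardQ := Subgroup.card_le_of_le hQ''T
    have hc2 := card_lt_card hQQ'
    refine IH (Nat.card (T : Subgroup X) - Nat.card Q'') (by rw [hQ'', card_cj] at *; omega) hQ''T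
      ?_ ?_ rfl _ (mem_normalizer_cj hnQ')
    · refine le_antisymm ?_ ((Subgroup.closure_le _).mpr fun _ hx => hx.2)
      rw [hQ'', hQ', cj, MonoidHom.map_closure, Subgroup.closure_le]
      rintro _ ⟨x, hx, rfl⟩
      refine Subgroup.subset_closure ⟨hinv k₀ x hx.1, ?_⟩
      rw [← MonoidHom.map_closure]
      exact Subgroup.mem_map_of_mem _ (Subgroup.subset_closure hx)
    · intro T' hT' hle e he heT
      have h := htop (cj k₀⁻¹ T') (hT'.map _) (fun x hx => ?_) (k₀⁻¹ * e * k₀⁻¹⁻¹) (hinv _ e he)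
        (conj_mem_cj heT)
      · have := C.mul_mem (C.mul_mem hk₀ h) (C.inv_mem hk₀)
        simpa [mul_assoc] using this
      · have h2 : k₀ * x * k₀⁻¹ ∈ T' := hle (conj_mem_cj (hQQ'.le hx))
        have := conj_mem_cj (g := k₀⁻¹) h2
        simpa [mul_assoc] using this
  have hQ₁ : cj k₀ Q ≤ (T : Subgroup X) := (cj_mono k₀ hQTK).trans hk₀T
  have hnQ : cj n Q = Q := cj_eq_of_mem_normalizer hnN
  have hgn : Good ι H Q n := by
    refine Good.of_conj (hC Q k₀ hk₀ hQT hQ₁) ?_ (hgood'.mono (cj_mono k₀ hQQ'.le))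
    rw [hnQ]
    exact hC Q k₀ hk₀ hQT hQ₁
  have hgk : Good ι H (cj n Q) k := by
    rw [hnQ]
    exact hC Q k (hKC hk) hQT ((cj_eq_of_mem_normalizer hkN).le.trans hQT)
  exact hg' ▸ hgn.comp hgk

end CfsgLib.ZJFail
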