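import Mathlib
import Cfsg.Agent.Lib.Quadratic.Section

/-!
Two quadratic elements `a`, `b` and a vector `z` fixed by `a` whose orbit is not acted on as by a
`p`-group: a plane over the prime field through `z` in the submodule generated by the orbit, on a
section of which `a` is `[[1, 1], [0, 1]]` and some element is `diag(l, l⁻¹)`.
-/

set_option autoImplicit false
set_option linter.style.haveILetI false
set_option linter.unusedSectionVars false

namespace CfsgLib.ZJFail

-- these two simp lemmas rewrite into each other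
attribute [-simp] ZMod.inv_coe_unit Units.val_inv_eq_inv_val ZMod.castHom_apply map_units_inv

open scoped MatrixGroups

universe u v

/-- `[[l, s], [0, l⁻¹]]`. -/
def tri {F : Type*} [Field F] (l : Fˣ) (s : F) : SL(2, F) :=
  ⟨!![(l : F), s; 0, ((l⁻¹ : Fˣ) : F)], by simp [Matrix.det_fin_two_of]⟩

theorem tri_coe {F : Type*} [Field F] (l : Fˣ) (s : F) :
    (tri l s).1 = !![(l : F), s; 0, ((l⁻¹ : Fˣ) : F)] := rfl

theorem mulVec_fin_two {F : Type*} [CommRing F] (A : Matrix (Fin 2) (Fin 2) F) (x : Fin 2 → F) :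
    A.mulVec x = ![A 0 0 * x 0 + A 0 1 * x 1, A 1 0 * x 0 + A 1 1 * x 1] := by
  ext i : 1
  fin_cases i <;> simp [Matrix.mulVec, dotProduct, Fin.sum_univ_two]

variable {G : Type u} [Group G] [Finite G] {p : ℕ} [hp : Fact p.Prime]

/-- Fixed vectors of a group acting as a `p`-group on a non-trivial `p`-torsion module. -/
theorem exists_fixed {Q : Type v} [AddCommGroup Q] [Finite Q] [Nontrivial Q]
    (hQ : ∀ x : Q, p • x = 0) (η : G →* AddMonoid.End Q) (h : ∀ g, ∃ k, η g ^ p ^ k = 1) :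
    ∃ x : Q, x ≠ 0 ∧ ∀ g, η g x = x := by
  letI : MulAction η.toHomUnits.range Q :=
    { smul := fun g x => (((g : (AddMonoid.End Q)ˣ) : AddMonoid.End Q)) x
      one_smul := fun x => rfl
      mul_smul := fun g g' x => rfl }
  have hR : IsPGroup p η.toHomUnits.range := by
    rintro ⟨_, g, rfl⟩
    obtain ⟨k, hk⟩ := h g
    refine ⟨k, Subtype.ext (Units.ext ?_)⟩
    simpa using hk
  have hdvd : p ∣ Nat.card Q := by
    obtain ⟨x, hx⟩ := exists_ne (0 : Q)
    rw [← addOrderOf_eq_prime (hQ x) hx]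
    exact addOrderOf_dvd_natCard x
  have h0 : (0 : Q) ∈ MulAction.fixedPoints η.toHomUnits.range Q := fun g =>
    map_zero (((g : (AddMonoid.End Q)ˣ) : AddMonoid.End Q))
  obtain ⟨x, hx, hne⟩ := hR.exists_fixed_point_of_prime_dvd_card_of_fixed_point Q hdvd h0
  exact ⟨x, hne.symm, fun g => hx ⟨η.toHomUnits g, g, rfl⟩⟩

theorem apply_eq_of_gen {V : Type v} [AddCommGroup V] (φ : G →* AddMonoid.End V) {a b : G}
    (hgen : Subgroup.closure ({a, b} : Set G) = ⊤) {x : V} (h1 : φ a x = x) (h2 : φ b x = x)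
    (g : G) : φ g x = x := by
  have hg : g ∈ Subgroup.closure ({a, b} : Set G) := hgen ▸ Subgroup.mem_top g
  induction hg using Subgroup.closure_induction with
  | mem y hy => rcases hy with rfl | rfl <;> assumption
  | one => rw [map_one]; rfl
  | mul y w _ _ hy hw =>
    rw [map_mul]
    show φ y (φ w x) = x
    rw [hw, hy]
  | inv y _ hy =>
    calc φ y⁻¹ x = φ y⁻¹ (φ y x) := by rw [hy]
      _ = φ (y⁻¹ * y) x := by rw [map_mul]; rfl
      _ = x := by rw [inv_mul_cancel, map_one]; rfl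

/-- A quadratic pair whose proper quotients are all acted on as by `p`-groups is irreducible. -/
theorem irreducible_of_quotients {W : Type v} [AddCommGroup W] [Finite W] (hp2 : p ≠ 2)
    (hW : ∀ w : W, p • w = 0) (ψ : G →* AddMonoid.End W) {a b : G}
    (hgen : Subgroup.closure ({a, b} : Set G) = ⊤) (ha : (ψ a - 1) * (ψ a - 1) = 0)
    (hb : (ψ b - 1) * (ψ b - 1) = 0) (hnp : ¬ ∀ x : G, ∃ k, ψ x ^ p ^ k = 1)
    (hmax : ∀ U : AddSubgroup W, (∀ g, ∀ u ∈ U, ψ g u ∈ U) → U ≠ ⊥ →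
      ∀ x : G, ∃ k, ∀ w : W, ψ (x ^ p ^ k) w - w ∈ U) :
    Quadratic.Irreducible ψ := by
  classical
  haveI := Fintype.ofFinite (AddSubgroup W)
  haveI hnt : Nontrivial W := by
    by_contra hs
    rw [not_nontrivial_iff_subsingleton] at hs
    exact hnp fun x => ⟨0, AddMonoidHom.ext fun v => Subsingleton.elim _ _⟩
  obtain ⟨W₀, hW₀, hmin⟩ := Finset.exists_min_image
    (Finset.univ.filter fun U : AddSubgroup W => U ≠ ⊥ ∧ ∀ g, ∀ u ∈ U, ψ g u ∈ U)
    (fun U => Nat.card U) ⟨⊤, Finset.mem_filter.mpr ⟨Finset.mem_univ _, top_ne_bot,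
      fun _ u _ => AddSubgroup.mem_top _⟩⟩
  simp only [Finset.mem_filter, Finset.mem_univ, true_and] at hW₀ hmin
  obtain ⟨hne, hinv⟩ := hW₀
  haveI : Nontrivial W₀ := (AddSubgroup.nontrivial_iff_ne_bot _).mpr hne
  set θ := Quadratic.restrict ψ W₀ hinv with hθ
  have hirr : Quadratic.Irreducible θ := by
    refine ⟨inferInstance, fun U' hU' => ?_⟩
    rw [or_iff_not_imp_left]
    intro hne'
    have hm := hmin (U'.map W₀.subtype) ⟨fun h => hne'
      ((AddSubgroup.map_eq_bot_iff_of_injective _ Subtype.val_injective).mp h), by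
      rintro g _ ⟨w, hw, rfl⟩
      exact ⟨_, hU' g w hw, rfl⟩⟩
    rw [AddSubgroup.card_map_of_injective Subtype.val_injective] at hm
    exact AddSubgroup.eq_top_of_le_card U' hm
  have hθnt : ∃ g, θ g ≠ 1 := by
    by_contra! h
    refine hnp fun x => ?_
    obtain ⟨k, hk⟩ := hmax W₀ hinv hne x
    refine ⟨k + 1, AddMonoidHom.ext fun w => ?_⟩
    set y := ψ (x ^ p ^ k) with hy
    have hyd : y (y w - w) = y w - w :=
      congrArg Subtype.val (DFunLike.congr_fun (h (x ^ p ^ k)) (⟨y w - w, hk w⟩ : W₀))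
    have hpow : ∀ j : ℕ, (y ^ j) w = w + j • (y w - w) := by
      intro j
      induction j with
      | zero => simp
      | succ j ih =>
        rw [pow_succ']
        show y ((y ^ j) w) = _
        rw [ih, map_add, map_nsmul, hyd, succ_nsmul]
        abel
    show (ψ x ^ p ^ (k + 1)) w = w
    rw [pow_succ, pow_mul, ← map_pow, ← hy, hpow, hW, add_zero]
  have ha0 : (θ a - 1) * (θ a - 1) = 0 := AddMonoidHom.ext fun w => Subtype.ext (DFunLike.congr_fun ha (w : W))
  have hb0 : (θ b - 1) * (θ b - 1) = 0 := AddMonoidHom.ext fun w => Subtype.ext (DFunLike.congr_fun hb (w : W))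
  obtain ⟨F, i3, i4, i5, lam, hlam, -, ρ, hρa, hρb, hρ, e, he⟩ :=
    Quadratic.exists_sl2_of_irreducible (fun w : W₀ => Subtype.ext (hW _)) θ hirr hgen ha0 hb0 hθnt
  by_cases htop : W₀ = ⊤
  · refine ⟨hnt, fun U hU => ?_⟩
    rw [or_iff_not_imp_left]
    intro h0
    have := hmin U ⟨h0, hU⟩
    rw [htop, AddSubgroup.card_top] at this
    exact AddSubgroup.eq_top_of_le_card U this
  exfalso
  -- a fixed vector above `W₀`
  haveI : Nontrivial (W ⧸ W₀) := by
    obtain ⟨x, hx⟩ := not_forall.mp fun h => htop ((AddSubgroup.eq_top_iff' W₀).mpr h)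
    exact ⟨⟨(x : W ⧸ W₀), 0, fun h => hx ((QuotientAddGroup.eq_zero_iff x).mp h)⟩⟩
  set η := Quadratic.onQuotient ψ W₀ hinv with hη
  obtain ⟨x', hx', hfix⟩ := exists_fixed (fun x : W ⧸ W₀ => by
      induction x using QuotientAddGroup.induction_on with
      | H u => rw [← QuotientAddGroup.mk_nsmul, hW]; rfl) η (fun g => by
    obtain ⟨k, hk⟩ := hmax W₀ hinv hne g
    refine ⟨k, ?_⟩
    rw [← map_pow]
    refine AddMonoidHom.ext fun q => ?_
    induction q using QuotientAddGroup.induction_on with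
    | H u => exact (QuotientAddGroup.eq_iff_sub_mem).mpr (hk u))
  induction x' using QuotientAddGroup.induction_on with
  | H x =>
  have hxW : x ∉ W₀ := fun h => hx' ((QuotientAddGroup.eq_zero_iff x).mpr h)
  have hd : ∀ g, ψ g x - x ∈ W₀ := fun g => (QuotientAddGroup.eq_iff_sub_mem).mp (hfix g)
  have hqa : ψ a (ψ a x - x) = ψ a x - x := sub_eq_zero.mp (DFunLike.congr_fun ha x)
  have hqb : ψ b (ψ b x - x) = ψ b x - x := sub_eq_zero.mp (DFunLike.congr_fun hb x)
  have hval : ∀ g (r : Fin 2 → F), ψ g (e r : W) = e ((ρ g).1.mulVec r) := fun g r =>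
    congrArg Subtype.val (he g r)
  set α := e.symm ⟨_, hd a⟩ with hαdef
  set β := e.symm ⟨_, hd b⟩ with hβdef
  have hα : (e α : W) = ψ a x - x := by rw [hαdef, e.apply_symm_apply]
  have hβ : (e β : W) = ψ b x - x := by rw [hβdef, e.apply_symm_apply]
  have hα1 : α 1 = 0 := by
    have h : (ρ a).1.mulVec α = α := e.injective (Subtype.ext (by rw [← hval, hα, hqa]))
    have h0 := congrFun h 0
    rw [hρa, SL2.up_coe, mulVec_fin_two] at h0
    simp at h0
    exact h0.resolve_left hlam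
  have hβ0 : β 0 = 0 := by
    have h : (ρ b).1.mulVec β = β := e.injective (Subtype.ext (by rw [← hval, hβ, hqb]))
    have h0 := congrFun h 1
    rw [hρb, SL2.lo_coe, mulVec_fin_two] at h0
    simp at h0
    exact h0
  set x₁ := x - (e ![β 1, α 0 / lam] : W) with hx₁
  have hfx₁ : ∀ g, ψ g x₁ = x₁ := by
    refine apply_eq_of_gen ψ hgen ?_ ?_
    · have h : (ρ a).1.mulVec ![β 1, α 0 / lam] = ![β 1, α 0 / lam] + α := by
        rw [hρa, SL2.up_coe, mulVec_fin_two]
        ext i : 1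
        fin_cases i
        · simp [mul_div_cancel₀ _ hlam]
        · simp [hα1]
      rw [hx₁, map_sub, hval, h, map_add, AddSubgroup.coe_add, hα]
      abel
    · have h : (ρ b).1.mulVec ![β 1, α 0 / lam] = ![β 1, α 0 / lam] + β := by
        rw [hρb, SL2.lo_coe, mulVec_fin_two]
        ext i : 1
        fin_cases i
        · simp [hβ0]
        · simp [add_comm]
      rw [hx₁, map_sub, hval, h, map_add, AddSubgroup.coe_add, hβ]
      abel
  set U := AddSubgroup.zmultiples x₁ with hU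
  have hx₁W : x₁ ∉ W₀ := fun h => hxW (by
    have := add_mem h (e ![β 1, α 0 / lam]).2
    rwa [hx₁, sub_add_cancel] at this)
  have hU0 : U ≠ ⊥ := fun h => hx₁W (by
    rw [(AddSubgroup.eq_bot_iff_forall _).mp h x₁ (AddSubgroup.mem_zmultiples x₁)]
    exact zero_mem _)
  have hmeet : ∀ w ∈ W₀, w ∈ U → w = 0 := by
    intro w hw hwU
    obtain ⟨n, rfl⟩ := AddSubgroup.mem_zmultiples_iff.mp hwU
    have hpx : (p : ℤ) • x₁ = 0 := by rw [natCast_zsmul, hW]
    by_cases hn : (p : ℤ) ∣ n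
    · obtain ⟨m, rfl⟩ := hn
      rw [mul_comm, mul_zsmul, hpx, zsmul_zero]
    · exfalso
      have hcop : IsCoprime (p : ℤ) n :=
        (Nat.prime_iff_prime_int.mp hp.out).coprime_iff_not_dvd.mpr hn
      obtain ⟨r, s, hrs⟩ := hcop
      refine hx₁W ?_
      have : x₁ = s • (n • x₁) := by
        conv_lhs => rw [← one_zsmul x₁, ← hrs]
        rw [add_zsmul, mul_zsmul, mul_zsmul, hpx, zsmul_zero, zero_add]
      rw [this]
      exact zsmul_mem hw s
  have hsyl := Quadratic.one_lt_card_sylow_range (p := p) ρ hlam hρa hρb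
  have hP : IsPGroup p ρ.range := by
    rintro ⟨_, g, rfl⟩
    obtain ⟨k, hk⟩ := hmax U (fun g u hu => by
      obtain ⟨n, rfl⟩ := AddSubgroup.mem_zmultiples_iff.mp hu
      rw [map_zsmul, hfx₁]
      exact hu) hU0 g
    refine ⟨k, Subtype.ext ?_⟩
    show ρ g ^ p ^ k = 1
    rw [← map_pow, ← hρ]
    refine AddMonoidHom.ext fun w => Subtype.ext ?_
    exact sub_eq_zero.mp (hmeet _ (sub_mem (hinv _ _ w.2) w.2) (hk w))
  haveI : Subsingleton (Sylow p ρ.range) := ⟨fun P Q => Sylow.ext (by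
    have htopP : IsPGroup p (⊤ : Subgroup ρ.range) := fun g => by
      obtain ⟨k, hk⟩ := hP g
      exact ⟨k, Subtype.ext hk⟩
    rw [← P.3 htopP le_top, ← Q.3 htopP le_top])⟩
  rw [Finite.one_lt_card_iff_nontrivial] at hsyl
  exact not_subsingleton _ ‹_›

section SL

variable {F : Type*} [Field F] [CharP F p]

theorem pow_entries (x : SL(2, F)) (h : x.1 1 0 = 0) (n : ℕ) :
    (x ^ n).1 1 0 = 0 ∧ (x ^ n).1 0 0 = x.1 0 0 ^ n := by
  induction n with
  | zero => simp
  | succ n ih =>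
    rw [pow_succ, SL2.mul_entry, SL2.mul_entry, ih.1, ih.2, h]
    constructor <;> ring

theorem eq_up_of_commute (hp2 : p ≠ 2) {x : SL(2, F)} {t : F} (ht : t ≠ 0)
    (hc : x * SL2.up t * x⁻¹ = SL2.up t) {j : ℕ} (hj : x ^ p ^ j = 1) :
    x = SL2.up (x.1 0 1) := by
  have h10 : x.1 1 0 = 0 := by
    have h := (SL2.conj_up_entries x t).1
    rw [hc, SL2.up_coe] at h
    simp at h
    exact h.resolve_left ht
  refine SL2.eq_up_of_entries h10 ?_
  have h := (pow_entries x h10 (p ^ j)).2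
  rw [hj] at h
  have h1 : (x.1 0 0 - 1) ^ p ^ j = 0 := by
    rw [sub_pow_char_pow, one_pow, ← h]
    simp
  exact sub_eq_zero.mp (eq_zero_of_pow_eq_zero h1)

/-- A `p`-subgroup containing a non-trivial `up t` is upper unipotent. -/
theorem eq_up_of_mem (hp2 : p ≠ 2) {P : Subgroup SL(2, F)} [Finite P] (hP : IsPGroup p P) {t : F}
    (ht : t ≠ 0) (htP : SL2.up t ∈ P) : ∀ q ∈ P, q = SL2.up (q.1 0 1) := by
  haveI : Nontrivial P := ⟨⟨⟨_, htP⟩, 1, fun h => ht (by
    have h1 := congrArg (fun M : SL(2, F) => M.1 0 1) (congrArg Subtype.val h)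
    simpa [SL2.up_coe] using h1)⟩⟩
  haveI := hP.center_nontrivial
  obtain ⟨⟨⟨c, hc⟩, hcz⟩, hc1⟩ := exists_ne (1 : Subgroup.center P)
  obtain ⟨j, hj⟩ := hP ⟨c, hc⟩
  have hct : c * SL2.up t * c⁻¹ = SL2.up t := by
    have h := congrArg Subtype.val (Subgroup.mem_center_iff.mp hcz ⟨_, htP⟩)
    rw [mul_inv_eq_iff_eq_mul]
    exact h.symm
  have hcs := eq_up_of_commute hp2 ht hct (congrArg Subtype.val hj)
  have hs : c.1 0 1 ≠ 0 := fun h => hc1 (Subtype.ext (Subtype.ext (by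
    rw [h, SL2.up_zero] at hcs
    exact hcs)))
  intro q hq
  obtain ⟨i, hi⟩ := hP ⟨q, hq⟩
  refine eq_up_of_commute hp2 hs ?_ (congrArg Subtype.val hi)
  rw [← hcs, mul_inv_eq_iff_eq_mul]
  exact congrArg Subtype.val (Subgroup.mem_center_iff.mp hcz ⟨q, hq⟩)

/-- The upper triangular element above a unit of the prime field. -/
theorem exists_tri [Finite F] (hp2 : p ≠ 2) (R : Subgroup SL(2, F))
    (hn : 1 < Nat.card (Sylow p R)) {lam : F} (hlam : lam ≠ 0) (hup : SL2.up lam ∈ R)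
    (l : (ZMod p)ˣ) :
    ∃ y ∈ R, ∃ β γ : F, y.1 0 0 = ZMod.castHom (dvd_refl p) F (l : ZMod p) ∧ y.1 1 0 = 0 ∧
      y.1 1 1 = ZMod.castHom (dvd_refl p) F ((l⁻¹ : (ZMod p)ˣ) : ZMod p) ∧ y.1 0 1 = β ∧
      ZMod.castHom (dvd_refl p) F (l : ZMod p) * γ + β =
        ZMod.castHom (dvd_refl p) F ((l⁻¹ : (ZMod p)ˣ) : ZMod p) * γ := by
  classical
  set i := ZMod.castHom (dvd_refl p) F with hi
  obtain ⟨k, t, ht, hk⟩ := SL2.exists_conj_twist hp2 R hn
  by_cases hl : ((l⁻¹ : (ZMod p)ˣ) : ZMod p) = l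
  · rcases mul_self_eq_one_iff.mp (show (l : ZMod p) * l = 1 by
      nth_rw 2 [← hl]; exact Units.mul_inv l) with h1 | h1
    · exact ⟨1, one_mem R, 0, 0, by simp [h1], by simp, by simp [hl, h1], by simp, by simp⟩
    · have hm : (-1 : SL(2, F)) ∈ R := by
        have e : SL2.twist (p := p) t ht (tri l 0) = -1 := by
          apply SL2.ext2 <;> simp [SL2.twist_coe, tri_coe, hl, h1]
        have h := hk (tri l 0)
        rwa [e, show k * (-1) * k⁻¹ = (-1 : SL(2, F)) by simp] at h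
      exact ⟨-1, hm, 0, 0, by simp [h1], by simp, by simp [hl, h1], by simp, by simp⟩
  -- conjugate the twisted copy until its upper unipotent lands in the Sylow subgroup at `up lam`
  have hzp : ∀ y : R, (y : SL(2, F)) ^ p = 1 → IsPGroup p (Subgroup.zpowers y) := by
    intro y hy
    rintro ⟨w, hw⟩
    obtain ⟨n, rfl⟩ := Subgroup.mem_zpowers_iff.mp hw
    refine ⟨1, Subtype.ext (?_ : (y ^ n) ^ p ^ 1 = 1)⟩
    rw [pow_one, ← zpow_natCast, ← zpow_mul, mul_comm, zpow_mul, zpow_natCast,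
      show y ^ p = 1 from Subtype.ext hy, one_zpow]
  have htw : SL2.twist (p := p) t ht (SL2.up 1) = SL2.up t := by
    apply SL2.ext2 <;> simp [SL2.twist_coe, SL2.up_coe]
  set c : R := ⟨k * SL2.twist t ht (SL2.up 1) * k⁻¹, hk _⟩ with hc
  have hcp : (c : SL(2, F)) ^ p = 1 := by
    show (k * SL2.twist t ht (SL2.up 1) * k⁻¹) ^ p = 1
    rw [conj_pow, htw, SL2.up_pow, mul_one, mul_inv_cancel]
  obtain ⟨P1, hP1⟩ := (hzp ⟨_, hup⟩ (SL2.up_pow lam)).exists_le_sylow
  obtain ⟨P2, hP2⟩ := (hzp c hcp).exists_le_sylow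
  obtain ⟨g, hg⟩ := MulAction.exists_smul_eq R P2 P1
  have hPup := eq_up_of_mem hp2 (P1.2.map R.subtype) hlam
    ⟨⟨_, hup⟩, hP1 (Subgroup.mem_zpowers _), rfl⟩
  have h1 : g * c * g⁻¹ ∈ (P1 : Subgroup R) := by
    rw [← hg]
    exact ⟨c, hP2 (Subgroup.mem_zpowers _), rfl⟩
  set m := (g : SL(2, F)) * k with hm
  have h2 := hPup (g * c * g⁻¹ : R) ⟨_, h1, rfl⟩
  have hmc : ((g * c * g⁻¹ : R) : SL(2, F)) = m * SL2.up t * m⁻¹ := by
    show (g : SL(2, F)) * (k * SL2.twist t ht (SL2.up 1) * k⁻¹) * (g : SL(2, F))⁻¹ = _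
    rw [htw, hm]; group
  have hm10 : m.1 1 0 = 0 := by
    have h := (SL2.conj_up_entries m t).1
    rw [← hmc, h2, SL2.up_coe] at h
    simp at h
    exact h.resolve_left ht
  set y := m * SL2.twist t ht (tri l 0) * m⁻¹ with hy
  have hyR : y ∈ R := by
    have h : y = (g : SL(2, F)) * (k * SL2.twist t ht (tri l 0) * k⁻¹) * (g : SL(2, F))⁻¹ := by
      rw [hy, hm]; group
    rw [h]
    exact mul_mem (mul_mem g.2 (hk _)) (inv_mem g.2)
  obtain ⟨i00, i01, i10, i11⟩ := SL2.inv_entries m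
  have hd := SL2.det_eq m
  rw [hm10, mul_zero, sub_zero] at hd
  set L := i (l : ZMod p) with hL
  set L' := i ((l⁻¹ : (ZMod p)ˣ) : ZMod p) with hL'
  have hne : L' - L ≠ 0 := fun h => hl (i.injective (sub_eq_zero.mp h))
  refine ⟨y, hyR, y.1 0 1, y.1 0 1 / (L' - L), ?_, ?_, ?_, rfl, ?_⟩
  · rw [hy]
    simp [SL2.mul_entry, SL2.twist_coe, tri_coe, i00, i10, hm10]
    linear_combination L * hd
  · rw [hy]
    simp [SL2.mul_entry, SL2.twist_coe, tri_coe, i00, i10, hm10]
  · rw [hy]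
    simp [SL2.mul_entry, SL2.twist_coe, tri_coe, i01, i11, hm10]
    linear_combination L' * hd
  · field_simp
    ring

end SL

/-- **A plane on which `a` is a transvection and some element the torus element of `l`.** -/
theorem exists_plane {V : Type v} [AddCommGroup V] [Finite V] (hp2 : p ≠ 2)
    (hV : ∀ v : V, p • v = 0) (φ : G →* AddMonoid.End V) {a b : G}
    (hgen : Subgroup.closure ({a, b} : Set G) = ⊤) (ha : (φ a - 1) * (φ a - 1) = 0)
    (hb : (φ b - 1) * (φ b - 1) = 0) {z : V} (haz : φ a z = z)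
    (hnp : ¬ ∀ x : G, ∃ k, ∀ g : G, φ (x ^ p ^ k) (φ g z) = φ g z) (l : (ZMod p)ˣ) :
    ∃ (U : AddSubgroup V) (hz : z ∈ U) (y : G) (f : U →+ (Fin 2 → ZMod p)),
      U ≤ AddSubgroup.closure (Set.range fun g => φ g z) ∧ Function.Surjective f ∧
      f ⟨z, hz⟩ = ![1, 0] ∧
      (∀ u : U, ∃ h : φ a u ∈ U, f ⟨_, h⟩ = (SL2.up (1 : ZMod p)).1.mulVec (f u)) ∧
      (∀ u : U, ∃ h : φ y u ∈ U, f ⟨_, h⟩ = (tri l 0).1.mulVec (f u)) := by
  classical
  haveI := Fintype.ofFinite (AddSubgroup V)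
  set M := AddSubgroup.closure (Set.range fun g => φ g z) with hM
  have hzM : z ∈ M := AddSubgroup.subset_closure ⟨1, by simp⟩
  have hMi : ∀ g, ∀ u ∈ M, φ g u ∈ M := by
    intro g u hu
    induction hu using AddSubgroup.closure_induction with
    | mem x hx =>
      obtain ⟨g', rfl⟩ := hx
      exact AddSubgroup.subset_closure ⟨g * g', by simp⟩
    | zero => rw [map_zero]; exact zero_mem _
    | add x y _ _ hx hy => rw [map_add]; exact add_mem hx hy
    | neg x _ hx => rw [map_neg]; exact neg_mem hx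
  obtain ⟨U₁, hU₁, hmax⟩ := Finset.exists_max_image
    (Finset.univ.filter fun U : AddSubgroup V => U ≤ M ∧ (∀ g, ∀ u ∈ U, φ g u ∈ U) ∧
      ¬ ∀ x : G, ∃ k, ∀ m ∈ M, φ (x ^ p ^ k) m - m ∈ U)
    (fun U => Nat.card U) ⟨⊥, Finset.mem_filter.mpr ⟨Finset.mem_univ _, bot_le, fun g u hu => by
        rw [AddSubgroup.mem_bot] at hu ⊢
        rw [hu, map_zero], fun h => hnp fun x => by
        obtain ⟨k, hk⟩ := h x
        exact ⟨k, fun g => sub_eq_zero.mp (hk _ (AddSubgroup.subset_closure ⟨g, rfl⟩))⟩⟩⟩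
  simp only [Finset.mem_filter, Finset.mem_univ, true_and] at hU₁ hmax
  obtain ⟨hU₁M, hU₁i, hU₁n⟩ := hU₁
  set φM := Quadratic.restrict φ M hMi with hφM
  set U₁' := U₁.addSubgroupOf M with hU₁'
  have hU₁'i : ∀ g, ∀ u ∈ U₁', φM g u ∈ U₁' := fun g u hu => hU₁i g _ hu
  set ψ := Quadratic.onQuotient φM U₁' hU₁'i with hψ
  have hmk : ∀ g (m : M), ψ g (m : M ⧸ U₁') = ((φM g m : M) : M ⧸ U₁') := fun g m => rfl
  have hWp : ∀ w : M ⧸ U₁', p • w = 0 := fun w => by
    induction w using QuotientAddGroup.induction_on with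
    | H u =>
      rw [← QuotientAddGroup.mk_nsmul, show p • u = 0 from Subtype.ext (hV _)]
      rfl
  have hquad : ∀ g, (φ g - 1) * (φ g - 1) = 0 → (ψ g - 1) * (ψ g - 1) = 0 := fun g hg =>
    AddMonoidHom.ext fun w => by
      induction w using QuotientAddGroup.induction_on with
      | H u =>
        show ((φM g (φM g u - u) - (φM g u - u) : M) : M ⧸ U₁') = 0
        rw [show φM g (φM g u - u) - (φM g u - u) = 0 from
          Subtype.ext (DFunLike.congr_fun hg (u : V))]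
        rfl
  have hnpψ : ¬ ∀ x : G, ∃ k, ψ x ^ p ^ k = 1 := by
    intro h
    refine hU₁n fun x => ?_
    obtain ⟨k, hk⟩ := h x
    refine ⟨k, fun m hm => ?_⟩
    have h1 := DFunLike.congr_fun hk ((⟨m, hm⟩ : M) : M ⧸ U₁')
    rw [← map_pow] at h1
    exact (QuotientAddGroup.eq_iff_sub_mem (N := U₁')).mp h1
  have hirr : Quadratic.Irreducible ψ := by
    refine irreducible_of_quotients hp2 hWp ψ hgen (hquad a ha) (hquad b hb) hnpψ
      fun U hU hne x => ?_
    set U₂ := (U.comap (QuotientAddGroup.mk' U₁')).map M.subtype with hU₂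
    have hU₂i : ∀ g, ∀ u ∈ U₂, φ g u ∈ U₂ := by
      rintro g _ ⟨u, hu, rfl⟩
      exact ⟨φM g u, hU g _ hu, rfl⟩
    have hlt : U₁ < U₂ := by
      refine lt_of_le_of_ne (fun u hu => ⟨⟨u, hU₁M hu⟩, ?_, rfl⟩) fun e => hne ?_
      · show ((⟨u, hU₁M hu⟩ : M) : M ⧸ U₁') ∈ U
        rw [(QuotientAddGroup.eq_zero_iff (N := U₁') _).mpr (show (⟨u, hU₁M hu⟩ : M) ∈ U₁' from hu)]
        exact zero_mem _
      · rw [AddSubgroup.eq_bot_iff_forall]
        intro w hw
        induction w using QuotientAddGroup.induction_on with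
        | H u =>
          refine (QuotientAddGroup.eq_zero_iff u).mpr ?_
          show (u : V) ∈ U₁
          exact e.symm ▸ (⟨u, hw, rfl⟩ : (u : V) ∈ U₂)
    have hp' : ∀ x : G, ∃ k, ∀ m ∈ M, φ (x ^ p ^ k) m - m ∈ U₂ := by
      by_contra h
      have h1 := hmax U₂ ⟨by rintro _ ⟨u, -, rfl⟩; exact u.2, hU₂i, h⟩
      exact hlt.ne (AddSubgroup.eq_of_le_of_card_ge hlt.le h1)
    obtain ⟨k, hk⟩ := hp' x
    refine ⟨k, fun w => ?_⟩
    induction w using QuotientAddGroup.induction_on with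
    | H u =>
      obtain ⟨v, hv, he⟩ := hk _ u.2
      have hve : v = φM (x ^ p ^ k) u - u := Subtype.ext he
      rw [hmk, ← QuotientAddGroup.mk_sub, ← hve]
      exact hv
  obtain ⟨g₀, hg₀⟩ : ∃ g, ψ g ≠ 1 := by
    by_contra! h
    exact hnpψ fun x => ⟨0, by rw [pow_zero, pow_one, h]⟩
  obtain ⟨F, i3, i4, i5, lam, hlam, -, ρ, hρa, hρb, hρ, e, he⟩ :=
    Quadratic.exists_sl2_of_irreducible hWp ψ hirr hgen (hquad a ha) (hquad b hb) ⟨g₀, hg₀⟩
  set q : M →+ (Fin 2 → F) := e.symm.toAddMonoidHom.comp (QuotientAddGroup.mk' U₁') with hq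
  have hqe : ∀ g (m : M), q (φM g m) = (ρ g).1.mulVec (q m) := by
    intro g m
    apply e.injective
    rw [← he]
    simp [hq, hmk]
  have hqs : Function.Surjective q := e.symm.surjective.comp (QuotientAddGroup.mk'_surjective _)
  set r := q ⟨z, hzM⟩ with hr
  have hr1 : r 1 = 0 := by
    have h : (ρ a).1.mulVec r = r := by
      rw [hr, ← hqe]
      exact congrArg q (Subtype.ext haz)
    have h0 := congrFun h 0
    rw [hρa, SL2.up_coe, mulVec_fin_two] at h0
    simp at h0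
    exact h0.resolve_left hlam
  have hr0 : r 0 ≠ 0 := by
    intro h
    have hr00 : r = 0 := by
      ext i : 1
      fin_cases i
      · exact h
      · exact hr1
    have hall : ∀ m (hm : m ∈ M), q ⟨m, hm⟩ = 0 := by
      intro m hm
      induction hm using AddSubgroup.closure_induction with
      | mem x hx =>
        obtain ⟨g, rfl⟩ := hx
        show q (φM g ⟨z, hzM⟩) = 0
        rw [hqe, ← hr, hr00, Matrix.mulVec_zero]
      | zero => exact map_zero q
      | add x y hx' hy' hx hy =>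
        show q (⟨x, hx'⟩ + ⟨y, hy'⟩) = 0
        rw [map_add, hx, hy, add_zero]
      | neg x hx' hx =>
        show q (-⟨x, hx'⟩) = 0
        rw [map_neg, hx, neg_zero]
    obtain ⟨m, hm⟩ := hqs ![1, 0]
    exact one_ne_zero (α := F) (congrFun ((hm.symm).trans (hall m m.2)) 0)
  obtain ⟨_, ⟨y, rfl⟩, β, γ, hy00, hy10, hy11, hy01, hγ⟩ := exists_tri hp2 ρ.range
    (Quadratic.one_lt_card_sylow_range ρ hlam hρa hρb) hlam ⟨a, hρa⟩ l
  set ι := ZMod.castHom (dvd_refl p) F with hι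
  set μ := r 0 with hμ
  let θ : (Fin 2 → ZMod p) →+ (Fin 2 → F) :=
    { toFun := fun x => ![ι (x 0) * μ + ι (x 1) * γ * μ / lam, ι (x 1) * μ / lam]
      map_zero' := by ext i : 1; fin_cases i <;> simp
      map_add' := fun x w => by ext i : 1; fin_cases i <;> simp <;> ring }
  have hθapp : ∀ x, θ x = ![ι (x 0) * μ + ι (x 1) * γ * μ / lam, ι (x 1) * μ / lam] := fun _ => rfl
  have hθi : Function.Injective θ := by
    intro x w h
    have h0 := congrFun h 0
    have h1 := congrFun h 1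
    simp only [hθapp, Matrix.cons_val_zero, Matrix.cons_val_one] at h0 h1
    have e1 : x 1 = w 1 :=
      ι.injective (mul_right_cancel₀ hr0 ((div_left_inj' hlam).mp h1))
    ext i : 1
    fin_cases i
    · rw [e1, add_left_inj] at h0
      exact ι.injective (mul_right_cancel₀ hr0 h0)
    · exact e1
  set U' := θ.range.comap q with hU'
  choose w hw using fun u : U' => u.2
  let f' : U' →+ (Fin 2 → ZMod p) :=
    { toFun := w
      map_zero' := hθi (by rw [hw, map_zero]; exact map_zero q)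
      map_add' := fun u v => hθi (by rw [map_add, hw, hw, hw]; exact map_add q _ _) }
  set U := U'.map M.subtype with hUdef
  have eU : ∀ u : U, ∃ u' : U', ((u' : M) : V) = u := fun u => by
    obtain ⟨m, hm, hmu⟩ := u.2
    exact ⟨⟨m, hm⟩, hmu⟩
  choose pre hpre using eU
  let f : U →+ (Fin 2 → ZMod p) :=
    { toFun := fun u => w (pre u)
      map_zero' := hθi (by
        rw [hw, map_zero]
        rw [show ((pre 0 : U') : M) = 0 from Subtype.ext ((hpre 0).trans rfl)]
        exact map_zero q)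
      map_add' := fun u v => hθi (by
        rw [map_add, hw, hw, hw, ← map_add]
        exact congrArg q (Subtype.ext (by rw [hpre, AddSubgroup.coe_add, AddSubgroup.coe_add, hpre, hpre]))) }
  have hf : ∀ u : U, θ (f u) = q ⟨u, by obtain ⟨m, -, hm⟩ := u.2; exact hm ▸ m.2⟩ := fun u => by
    show θ (w (pre u)) = _
    rw [hw]
    exact congrArg q (Subtype.ext (hpre u))
  have hstep : ∀ (x : G) (T : SL(2, ZMod p)), (∀ s, (ρ x).1.mulVec (θ s) = θ (T.1.mulVec s)) →
      ∀ u : U, ∃ h : φ x u ∈ U, f ⟨_, h⟩ = T.1.mulVec (f u) := by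
    intro x T hT u
    obtain ⟨m, hm, hmu⟩ := id u.2
    have hq' : q (φM x m) = θ (T.1.mulVec (f u)) := by
      rw [hqe, ← hT, hf]
      exact congrArg _ (congrArg q (Subtype.ext hmu))
    have hmem : φ x u ∈ U := ⟨φM x m, ⟨_, hq'.symm⟩, by rw [← hmu]; rfl⟩
    refine ⟨hmem, hθi ?_⟩
    rw [hf, ← hq']
    refine congrArg q (Subtype.ext ?_)
    show φ x (u : V) = φ x (m : V)
    exact congrArg (φ x) hmu.symm
  have hz1 : θ ![1, 0] = r := by
    ext i : 1
    fin_cases i
    · simp [hθapp, hμ]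
    · simp [hθapp, hr1]
  have hzU : z ∈ U := ⟨⟨z, hzM⟩, ⟨_, hz1⟩, rfl⟩
  refine ⟨U, hzU, y, f, by rintro _ ⟨m, -, rfl⟩; exact m.2, fun s => ?_, hθi ?_, hstep a _ ?_,
    hstep y _ ?_⟩
  · obtain ⟨m, hm⟩ := hqs (θ s)
    exact ⟨⟨m, m, ⟨s, hm.symm⟩, rfl⟩, hθi (by rw [hf]; exact hm)⟩
  · rw [hf, hz1]
  · intro s
    rw [hρa, hθapp, hθapp, SL2.up_coe, SL2.up_coe, mulVec_fin_two, mulVec_fin_two]
    ext i : 1
    fin_cases i
    · simp; field_simp; ring
    · simp
  · intro s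
    rw [hθapp, hθapp, mulVec_fin_two, mulVec_fin_two, hy00, hy01, hy10, hy11, tri_coe]
    ext i : 1
    fin_cases i
    · simp
      field_simp
      linear_combination (ι (s 1)) * hγ
    · simp
      ring

end CfsgLib.ZJFail
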