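import Mathlib
import Cfsg.Agent.Lib.Quadratic.Groups
import Cfsg.Agent.Lib.Transfer.Basic
import Cfsg.Agent.Lib.ZJFail.Pair
import Cfsg.Agent.Lib.ZJFail.Plane

/-!
A `p`-subgroup `Q` acting by upper unipotents, and an element `t` normalizing it by a torus
element, on a plane section whose first axis is spanned by `z`; existence from a quadratic pair.
-/

set_option autoImplicit false
set_option linter.style.haveILetI false
set_option linter.unusedSectionVars false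

namespace CfsgLib.ZJFail

-- these simp lemmas rewrite into each other
attribute [-simp] ZMod.inv_coe_unit Units.val_inv_eq_inv_val

open CfsgLib.Conjugacy
open scoped MatrixGroups commutatorElement IsMulCommutative

variable {X Γ : Type*} [Group X] [Group Γ] {p : ℕ} [hp : Fact p.Prime]

/-- `x` acts on the plane section `f` of `U` as `g`. -/
def Act (U : Subgroup X) (f : U →* Multiplicative (Fin 2 → ZMod p)) (x : X) (g : SL(2, ZMod p)) :
    Prop :=
  ∀ u : U, ∃ h : x * u * x⁻¹ ∈ U, (f ⟨_, h⟩).toAdd = g.1.mulVec (f u).toAdd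

namespace Act

variable {U : Subgroup X} {f : U →* Multiplicative (Fin 2 → ZMod p)} {x y : X} {g k : SL(2, ZMod p)}

theorem one : Act U f 1 1 := fun u =>
  ⟨by simp, by simp⟩

theorem mul (hx : Act U f x g) (hy : Act U f y k) : Act U f (x * y) (g * k) := by
  intro u
  obtain ⟨h1, e1⟩ := hy u
  obtain ⟨h2, e2⟩ := hx ⟨_, h1⟩
  have e : x * y * (u : X) * (x * y)⁻¹ = x * (y * u * y⁻¹) * x⁻¹ := by group
  refine ⟨e ▸ h2, ?_⟩
  rw [Matrix.SpecialLinearGroup.coe_mul, ← Matrix.mulVec_mulVec, ← e1, ← e2]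
  exact congrArg (fun v => (f v).toAdd) (Subtype.ext e)

theorem unique (hf : Function.Surjective f) (h1 : Act U f x g) (h2 : Act U f x k) : g = k := by
  refine Matrix.SpecialLinearGroup.ext _ _ fun i j => ?_
  obtain ⟨u, hu⟩ := hf (Multiplicative.ofAdd (Pi.single j 1))
  obtain ⟨a, ea⟩ := h1 u
  obtain ⟨b, eb⟩ := h2 u
  have h := ea.symm.trans eb
  rw [hu, toAdd_ofAdd, Matrix.mulVec_single_one, Matrix.mulVec_single_one] at h
  exact congrFun h i

theorem pow (hx : Act U f x g) (n : ℕ) : Act U f (x ^ n) (g ^ n) := by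
  induction n with
  | zero => simpa using Act.one
  | succ n ih => rw [pow_succ, pow_succ]; exact ih.mul hx

theorem inv [Finite X] (hf : Function.Surjective f) (hx : Act U f x g) : Act U f x⁻¹ g⁻¹ := by
  obtain ⟨n, hn⟩ : ∃ n, n + 1 = orderOf x := ⟨orderOf x - 1, by have := orderOf_pos x; omega⟩
  have h2 : x ^ (n + 1) = 1 := by rw [hn, pow_orderOf_eq_one]
  have h1 : g ^ (n + 1) = 1 := unique hf (hx.pow (n + 1)) (h2.symm ▸ Act.one)
  rw [inv_eq_of_mul_eq_one_left (show x ^ n * x = 1 by rw [← pow_succ, hn, pow_orderOf_eq_one]),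
    inv_eq_of_mul_eq_one_left (show g ^ n * g = 1 by rw [← pow_succ, h1])]
  exact hx.pow n

theorem mem_normalizer [Finite X] (hx : Act U f x g) : x ∈ Subgroup.normalizer (U : Set X) := by
  rw [Subgroup.mem_normalizer_iff_map_conj_eq]
  show cj x U = U
  refine Subgroup.eq_of_le_of_card_ge ?_ (card_cj x U).ge
  rintro _ ⟨u, hu, rfl⟩
  exact (hx ⟨u, hu⟩).1

/-- An element centralizing `U` acts trivially. -/
theorem of_centralizes (h : ∀ u ∈ U, x * u * x⁻¹ = u) : Act U f x 1 := fun u =>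
  ⟨(h u u.2).symm ▸ u.2, by
    rw [Matrix.SpecialLinearGroup.coe_one, Matrix.one_mulVec]
    exact congrArg (fun v => (f v).toAdd) (Subtype.ext (h u u.2))⟩

end Act

theorem tri_mul_up (l : (ZMod p)ˣ) (r s : ZMod p) :
    tri l r * SL2.up s * (tri l r)⁻¹ = SL2.up ((l : ZMod p) * l * s) := by
  rw [mul_inv_eq_iff_eq_mul]
  have hl : (l : ZMod p) * ((l⁻¹ : (ZMod p)ˣ) : ZMod p) = 1 := Units.mul_inv l
  apply SL2.ext2 <;> simp [SL2.mul_entry, tri_coe, SL2.up_coe]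
  linear_combination (-(l : ZMod p) * s) * hl

theorem up_mul_tri (l : (ZMod p)ˣ) (s : ZMod p) :
    SL2.up s * tri l 0 = tri l (s * ((l⁻¹ : (ZMod p)ˣ) : ZMod p)) := by
  apply SL2.ext2 <;> simp [SL2.mul_entry, tri_coe, SL2.up_coe]

/-- `Q` acts by upper unipotents, not all trivial, `t` by a torus element, `z` spans the axis. -/
def RawData (l : (ZMod p)ˣ) (z t : X) (Q : Subgroup X) : Prop :=
  ∃ (U : Subgroup X) (f : U →* Multiplicative (Fin 2 → ZMod p)), U ≤ Q ∧ Function.Surjective f ∧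
    (∀ q ∈ Q, ∃ s, Act U f q (SL2.up s)) ∧ (∃ q ∈ Q, ∃ s, s ≠ 0 ∧ Act U f q (SL2.up s)) ∧
    (∃ s, Act U f t (tri l s)) ∧ ∃ hz : z ∈ U, (f ⟨z, hz⟩).toAdd = ![1, 0]

/-- `RawData` only depends on the map induced by `t` on `Q`. -/
theorem RawData.map {l : (ZMod p)ˣ} {z t : X} {Q : Subgroup X} (D : RawData l z t Q) (ι : X →* Γ)
    (hι : Function.Injective ι) {h : Γ} (hh : ∀ q ∈ Q, ι (t * q * t⁻¹) = h * ι q * h⁻¹) :
    RawData l (ι z) h (Q.map ι) := by
  obtain ⟨U, f, hUQ, hf, hact, ⟨q₀, hq₀, s₀, hs₀, hq₀s⟩, ⟨st, ht⟩, hz, hfz⟩ := D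
  set e := U.equivMapOfInjective ι hι with he
  set f' := f.comp e.symm.toMonoidHom with hf'
  have hfe : ∀ (w : Γ) (hw : w ∈ U.map ι) (u : X) (hu : u ∈ U), ι u = w →
      f' ⟨w, hw⟩ = f ⟨u, hu⟩ := by
    intro w hw u hu huw
    show f (e.symm ⟨w, hw⟩) = f ⟨u, hu⟩
    refine congrArg f (e.injective ?_)
    rw [e.apply_symm_apply]
    exact Subtype.ext huw.symm
  have key : ∀ (x : X) (y : Γ) (g : SL(2, ZMod p)), Act U f x g →
      (∀ u ∈ U, ι (x * u * x⁻¹) = y * ι u * y⁻¹) → Act (U.map ι) f' y g := by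
    rintro x y g hx hy ⟨_, u, hu, rfl⟩
    obtain ⟨h1, e1⟩ := hx ⟨u, hu⟩
    have h2 : y * ι u * y⁻¹ ∈ U.map ι := hy u hu ▸ ⟨_, h1, rfl⟩
    refine ⟨h2, ?_⟩
    rw [hfe _ h2 _ h1 (hy u hu), hfe (ι u) ⟨u, hu, rfl⟩ u hu rfl, e1]
  refine ⟨U.map ι, f', Subgroup.map_mono hUQ, hf.comp e.symm.surjective, ?_,
    ⟨ι q₀, ⟨q₀, hq₀, rfl⟩, s₀, hs₀, key q₀ _ _ hq₀s fun u _ => by simp⟩,
    ⟨st, key t h _ ht fun u hu => hh u (hUQ hu)⟩, ⟨z, hz, rfl⟩, ?_⟩
  · rintro _ ⟨q, hq, rfl⟩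
    obtain ⟨s, hs⟩ := hact q hq
    exact ⟨s, key q _ _ hs fun u _ => by simp⟩
  · exact (congrArg Multiplicative.toAdd (hfe _ _ z hz rfl)).trans hfz

/-- `RawData` pulled back along a surjection. -/
theorem RawData.comap {l : (ZMod p)ˣ} {z t : Γ} {Q : Subgroup Γ} (D : RawData l z t Q) (π : X →* Γ)
    (hπ : Function.Surjective π) {z' t' : X} (hz' : π z' = z) (ht' : π t' = t) :
    RawData l z' t' (Q.comap π) := by
  obtain ⟨U, f, hUQ, hf, hact, ⟨q₀, hq₀, s₀, hs₀, hq₀s⟩, ⟨st, ht⟩, hz, hfz⟩ := D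
  set f' := f.comp (π.subgroupComap U) with hf'
  have key : ∀ (x : X) (g : SL(2, ZMod p)), Act U f (π x) g → Act (U.comap π) f' x g := by
    intro x g hx u
    obtain ⟨h1, e1⟩ := hx ⟨π u, u.2⟩
    refine ⟨by simpa using h1, ?_⟩
    refine Eq.trans ?_ e1
    exact congrArg (fun v => (f v).toAdd) (Subtype.ext (show π (x * u * x⁻¹) = π x * π (u : X) * (π x)⁻¹ by rw [map_mul, map_mul, map_inv]))
  obtain ⟨x₀, rfl⟩ := hπ q₀
  refine ⟨U.comap π, f', Subgroup.comap_mono hUQ,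
    hf.comp (π.subgroupComap_surjective_of_surjective U hπ), fun q hq => ?_,
    ⟨x₀, hq₀, s₀, hs₀, key _ _ hq₀s⟩, ⟨st, key t' _ (ht'.symm ▸ ht)⟩,
    show π z' ∈ U from hz'.symm ▸ hz, ?_⟩
  · obtain ⟨s, hs⟩ := hact _ hq
    exact ⟨s, key q _ hs⟩
  · refine Eq.trans ?_ hfz
    exact congrArg (fun v => (f v).toAdd) (Subtype.ext hz')

/-- The `p`-elements acting quadratically on `V`. -/
def Sig (p : ℕ) (V : Subgroup X) : Set X :=
  {e | IsPGroup p (Subgroup.zpowers e) ∧ ⁅⁅V, Subgroup.zpowers e⁆, Subgroup.zpowers e⁆ = ⊥}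

theorem conj_mem_Sig {V : Subgroup X} [hVn : V.Normal] (g : X) {e : X} (he : e ∈ Sig p V) :
    g * e * g⁻¹ ∈ Sig p V := by
  have h1 : (Subgroup.zpowers e).map (MulAut.conj g).toMonoidHom = Subgroup.zpowers (g * e * g⁻¹) :=
    MonoidHom.map_zpowers _ e
  have h2 : V.map (MulAut.conj g).toMonoidHom = V := cj_eq_of_mem_normalizer (by rw [Subgroup.normalizer_eq_top V]; exact Subgroup.mem_top g)
  constructor
  · rw [← h1]
    exact he.1.map _
  · rw [← h1]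
    nth_rw 1 [← h2]
    rw [← Subgroup.map_commutator, ← Subgroup.map_commutator, he.2, Subgroup.map_bot]

theorem mem_Sig_of_centralizes {V : Subgroup X} {e : X} (he : IsPGroup p (Subgroup.zpowers e))
    (hc : e ∈ Subgroup.centralizer (V : Set X)) : e ∈ Sig p V := by
  refine ⟨he, ?_⟩
  have h : ⁅V, Subgroup.zpowers e⁆ = ⊥ := by
    rw [Subgroup.commutator_comm, Subgroup.commutator_eq_bot_iff_le_centralizer]
    exact Subgroup.zpowers_le.mpr hc
  rw [h, Subgroup.commutator_bot_left]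

variable [Finite X]

set_option maxHeartbeats 400000 in
/-- **Torus data from a quadratic pair.** -/
theorem exists_rawData (hp2 : p ≠ 2) (l : (ZMod p)ˣ) (T : Sylow p X) (V : Subgroup X) [V.Normal]
    (hV : Cfsg.IsElementaryAbelian p V) {z : X} (hzV : z ∈ V)
    (hTz : (T : Subgroup X) ≤ Subgroup.centralizer ({z} : Set X)) {e₀ : X} (he₀ : e₀ ∈ Sig p V)
    (he₀z : e₀ ∉ Subgroup.centralizer ({z} : Set X)) :
    ∃ (t : X) (Q : Subgroup X), Q ≤ T ∧ t ∈ Subgroup.normalizer (Q : Set X) ∧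
      Q = Subgroup.closure (Sig p V ∩ Q) ∧
      (∀ T' : Subgroup X, IsPGroup p T' → Q ≤ T' → ∀ e ∈ Sig p V, e ∈ T' →
        e ∈ Subgroup.centralizer ({z} : Set X)) ∧
      RawData l z t Q := by
  classical
  set C := Subgroup.centralizer ({z} : Set X) with hC
  have hCz : ∀ x ∈ C, x * z * x⁻¹ = z := fun x hx => by
    rw [mul_inv_eq_iff_eq_mul]
    exact (Subgroup.mem_centralizer_singleton_iff.mp hx)
  obtain ⟨c, d, R, hc, hcT, hcR, hRT, hRgen, hd, hdR, hdC, htop⟩ := exists_pair T C hTz (Sig p V)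
    (fun g e he => conj_mem_Sig g he) (fun e he => he.1) he₀ he₀z
  set N := Subgroup.normalizer (R : Set X) with hN
  set Y := Subgroup.closure ({c, d} : Set X) with hY
  have hYN : Y ≤ N := (Subgroup.closure_le _).mpr (by rintro w (rfl | rfl) <;> assumption)
  -- `R` fixes the orbit of `z`
  have hRfix : ∀ r ∈ R, ∀ y ∈ Y, r * (y * z * y⁻¹) * r⁻¹ = y * z * y⁻¹ := by
    intro r hr y hy
    have h1 : y⁻¹ * r * y ∈ R := by
      have := (Subgroup.mem_normalizer_iff.mp (N.inv_mem (hYN hy)) r).mp hr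
      simpa using this
    calc r * (y * z * y⁻¹) * r⁻¹ = y * ((y⁻¹ * r * y) * z * (y⁻¹ * r * y)⁻¹) * y⁻¹ := by group
      _ = y * z * y⁻¹ := by rw [hCz _ (hTz (hRT h1))]
  -- the orbit is not acted on as by a `p`-group
  have hcY : c ∈ Y := Subgroup.subset_closure (Set.mem_insert _ _)
  have hdY : d ∈ Y := Subgroup.subset_closure (Set.mem_insert_of_mem _ rfl)
  have hnp : ¬ ∀ x : Y, ∃ k, ∀ y : Y,
      (x : X) ^ p ^ k * ((y : X) * z * (y : X)⁻¹) * ((x : X) ^ p ^ k)⁻¹ = (y : X) * z * (y : X)⁻¹ := by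
    intro h
    let K : Subgroup Y :=
      { carrier := {x | ∀ y : Y, (x : X) * ((y : X) * z * (y : X)⁻¹) * (x : X)⁻¹ = (y : X) * z * (y : X)⁻¹}
        one_mem' := fun y => by simp
        mul_mem' := fun {u v} hu hv y => by
          rw [Subgroup.coe_mul, show (u : X) * v * ((y : X) * z * (y : X)⁻¹) * ((u : X) * v)⁻¹ =
            (u : X) * ((v : X) * ((y : X) * z * (y : X)⁻¹) * (v : X)⁻¹) * (u : X)⁻¹ by group, hv y, hu y]
        inv_mem' := fun {u} hu y => by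
          rw [Subgroup.coe_inv]
          nth_rw 1 [← hu y]
          group }
    haveI : K.Normal := ⟨fun u hu w y => by
      have h1 := hu (w⁻¹ * y)
      simp only [Subgroup.coe_mul, Subgroup.coe_inv] at h1 ⊢
      calc _ = (w : X) * ((u : X) * ((w : X)⁻¹ * y * z * ((w : X)⁻¹ * y)⁻¹) * (u : X)⁻¹) * (w : X)⁻¹ := by
            group
        _ = _ := by rw [h1]; group⟩
    have hKC : ∀ k ∈ K, (k : X) ∈ C := fun k hk => by
      have h1 := hk 1
      simp only [OneMemClass.coe_one, one_mul, inv_one, mul_one, mul_inv_eq_iff_eq_mul] at h1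
      exact Subgroup.mem_centralizer_singleton_iff.mpr h1
    have hQ : IsPGroup p (Y ⧸ K) := fun q => by
      obtain ⟨x, rfl⟩ := QuotientGroup.mk'_surjective K q
      obtain ⟨k, hk⟩ := h x
      refine ⟨k, ?_⟩
      rw [← map_pow]
      exact (QuotientGroup.eq_one_iff _).mpr (fun y => by simpa using hk y)
    obtain ⟨P, hP⟩ := (hc.1.comap_of_injective Y.subtype Y.subtype_injective).exists_le_sylow
    obtain ⟨P', hP'⟩ := (hd.1.comap_of_injective Y.subtype Y.subtype_injective).exists_le_sylow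
    obtain ⟨g, hg⟩ := MulAction.exists_smul_eq Y P P'
    have hPtop : (P : Subgroup Y).map (QuotientGroup.mk' K) = ⊤ := by
      have hs := P.mapSurjective (QuotientGroup.mk'_surjective K)
      exact (P.mapSurjective (QuotientGroup.mk'_surjective K)).3
        (hQ.to_subgroup ⊤) le_top |>.symm
    obtain ⟨w, hw, hwg⟩ := hPtop.ge (Subgroup.mem_top (QuotientGroup.mk' K g))
    have hk : g * w⁻¹ ∈ K := by
      rw [← QuotientGroup.eq_one_iff]
      show QuotientGroup.mk' K (g * w⁻¹) = 1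
      rw [map_mul, map_inv, hwg, mul_inv_cancel]
    obtain ⟨d', hd', hd'e⟩ : (⟨d, hdY⟩ : Y) ∈ ((g • P : Sylow p Y) : Subgroup Y) := by
      rw [hg]
      exact hP' (Subgroup.mem_comap.mpr (Subgroup.mem_zpowers d))
    replace hd'e : g * d' * g⁻¹ = ⟨d, hdY⟩ := hd'e
    have hd'' : w * d' * w⁻¹ ∈ (P : Subgroup Y) := mul_mem (mul_mem hw hd') (inv_mem hw)
    set P₁ := (P : Subgroup Y).map Y.subtype with hP₁
    have hP₁N : P₁ ≤ N := by
      rintro _ ⟨x, -, rfl⟩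
      exact hYN x.2
    have hP₁R : IsPGroup p ↥(R ⊔ P₁) :=
      (T.2.to_le hRT).to_sup_of_normal_left' (P.2.map _) hP₁N
    have e1 : (((g * w⁻¹)⁻¹ * ⟨d, hdY⟩ * (g * w⁻¹) : Y) : X) =
        ((w * d' * w⁻¹ : Y) : X) := by
      rw [← hd'e]; congr 1; group
    have h1 : ((g * w⁻¹ : Y) : X)⁻¹ * d * ((g * w⁻¹ : Y) : X) ∈ C := by
      refine htop _ hP₁R le_sup_left
        (Subgroup.mem_sup_right ⟨⟨c, hcY⟩, hP (Subgroup.mem_comap.mpr (Subgroup.mem_zpowers c)), rfl⟩)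
        _ (by simpa using conj_mem_Sig (V := V) ((g * w⁻¹ : Y) : X)⁻¹ hd)
        (Subgroup.mem_sup_right ⟨_, hd'', ?_⟩)
      exact e1.symm
    refine hdC ?_
    have := C.mul_mem (C.mul_mem (hKC _ hk) h1) (C.inv_mem (hKC _ hk))
    rwa [show ((g * w⁻¹ : Y) : X) * (((g * w⁻¹ : Y) : X)⁻¹ * d * ((g * w⁻¹ : Y) : X)) *
      ((g * w⁻¹ : Y) : X)⁻¹ = d by group] at this
  -- the plane
  haveI := hV.1
  have hVP : IsPGroup p V := fun v => ⟨1, Subtype.ext (by rw [pow_one]; exact hV.2 _ v.2)⟩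
  have hYV : Y ≤ Subgroup.normalizer (V : Set X) := by
    rw [Subgroup.normalizer_eq_top V]; exact le_top
  set φ := Quadratic.act V Y hYV with hφ
  set zA : Additive V := Additive.ofMul (⟨z, hzV⟩ : V) with hzA
  have hgen : Subgroup.closure ({(⟨c, hcY⟩ : Y), ⟨d, hdY⟩} : Set Y) = ⊤ := by
    apply Subgroup.map_injective Y.subtype_injective
    rw [MonoidHom.map_closure, Set.image_pair, ← MonoidHom.range_eq_map, Subgroup.range_subtype]
    rfl
  have hVp : ∀ v : Additive V, p • v = 0 := Quadratic.act_nsmul hV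
  have hqc : (φ ⟨c, hcY⟩ - 1) * (φ ⟨c, hcY⟩ - 1) = 0 := Quadratic.act_quadratic V Y hYV hc.2
  have hqd : (φ ⟨d, hdY⟩ - 1) * (φ ⟨d, hdY⟩ - 1) = 0 := Quadratic.act_quadratic V Y hYV hd.2
  have hcfix : φ ⟨c, hcY⟩ zA = zA := Additive.toMul.injective (Subtype.ext (hCz c (hTz hcT)))
  have hnp' : ¬ ∀ x : Y, ∃ k, ∀ g : Y, φ (x ^ p ^ k) (φ g zA) = φ g zA := fun h => hnp fun x => by
    obtain ⟨k, hk⟩ := h x
    refine ⟨k, fun y => ?_⟩
    have h1 := congrArg (fun v : Additive V => ((v.toMul : V) : X)) (hk y)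
    exact h1
  obtain ⟨U, hzU, y, f, hUM, hf, hfz, hfc, hfy⟩ := exists_plane (G := Y) (V := Additive V) hp2 hVp φ
    (a := ⟨c, hcY⟩) (b := ⟨d, hdY⟩) hgen hqc hqd (z := zA) hcfix hnp' l
  set Ug : Subgroup X := (AddSubgroup.toSubgroup' U).map V.subtype with hUg
  have hUV : Ug ≤ V := by rintro _ ⟨v, -, rfl⟩; exact v.2
  have hUmem : ∀ u : Ug, Additive.ofMul (⟨u, hUV u.2⟩ : V) ∈ U := by
    rintro ⟨_, v, hv, rfl⟩
    exact hv
  let fg : Ug →* Multiplicative (Fin 2 → ZMod p) :=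
    MonoidHom.mk' (fun u => Multiplicative.ofAdd (f ⟨_, hUmem u⟩)) fun u v => by
      rw [← ofAdd_add, ← map_add]
      rfl
  have hact : ∀ (x : Y) (T₀ : SL(2, ZMod p)),
      (∀ u : U, ∃ h : φ x u ∈ U, f ⟨_, h⟩ = T₀.1.mulVec (f u)) → Act Ug fg (x : X) T₀ := by
    intro x T₀ hx u
    obtain ⟨h1, e1⟩ := hx ⟨_, hUmem u⟩
    exact ⟨⟨_, h1, rfl⟩, e1⟩
  have hRU : ∀ r ∈ R, ∀ u ∈ Ug, r * u * r⁻¹ = u := by
    rintro r hr _ ⟨v, hv, rfl⟩
    have h := hUM hv
    revert h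
    suffices ∀ w ∈ AddSubgroup.closure (Set.range fun g => φ g zA),
        r * ((w.toMul : V) : X) * r⁻¹ = ((w.toMul : V) : X) from fun h => this _ h
    intro w hw
    induction hw using AddSubgroup.closure_induction with
    | mem _ hg =>
      obtain ⟨g, rfl⟩ := hg
      exact hRfix r hr g g.2
    | zero => simp
    | add a b _ _ ha hb =>
      rw [toMul_add, Subgroup.coe_mul, show r * (((a.toMul : V) : X) * (b.toMul : V)) * r⁻¹ =
        (r * (a.toMul : V) * r⁻¹) * (r * (b.toMul : V) * r⁻¹) by group, ha, hb]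
    | neg a _ ha =>
      rw [toMul_neg, Subgroup.coe_inv, ← conj_inv, ha]
  have hfgs : Function.Surjective fg := fun v => by
    obtain ⟨u, hu⟩ := hf v.toAdd
    refine ⟨⟨((u : Additive V).toMul : V), _, u.2, rfl⟩, ?_⟩
    show Multiplicative.ofAdd (f u) = v
    rw [hu, ofAdd_toAdd]
  have hcAct := hact ⟨c, hcY⟩ _ hfc
  have hyAct := hact y _ hfy
  -- the elements acting by upper unipotents
  let Up : Subgroup X :=
    { carrier := {x | x ∈ N ∧ ∃ s, Act Ug fg x (SL2.up s)}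
      one_mem' := ⟨N.one_mem, 0, by rw [SL2.up_zero]; exact Act.one⟩
      mul_mem' := fun {a b} ha hb => by
        obtain ⟨ha, s, hs⟩ := ha
        obtain ⟨hb, s', hs'⟩ := hb
        exact ⟨N.mul_mem ha hb, s + s', by rw [SL2.up_add]; exact hs.mul hs'⟩
      inv_mem' := fun {a} ha => by
        obtain ⟨ha, s, hs⟩ := ha
        exact ⟨N.inv_mem ha, -s, by rw [SL2.up_neg]; exact hs.inv hfgs⟩ }
  have hUgUp : Ug ≤ Up := fun u hu => by
    refine ⟨?_, 0, (SL2.up_zero (F := ZMod p)).symm ▸ Act.of_centralizes fun w hw => ?_⟩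
    · refine Subgroup.centralizer_le_normalizer _ (Subgroup.mem_centralizer_iff.mpr fun r hr => ?_)
      exact mul_inv_eq_iff_eq_mul.mp (hRU r hr u hu)
    · rw [mul_inv_eq_iff_eq_mul]
      exact congrArg Subtype.val (mul_comm (⟨u, hUV hu⟩ : V) ⟨w, hUV hw⟩)
  have hRUp : R ≤ Up := fun r hr => ⟨Subgroup.le_normalizer hr, 0, by
    rw [SL2.up_zero]; exact Act.of_centralizes (hRU r hr)⟩
  have hcUp : c ∈ Up := ⟨hcR, 1, hcAct⟩
  have hP0 : IsPGroup p ↥(Ug ⊔ (R ⊔ Subgroup.zpowers c)) := by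
    refine (IsPGroup.to_le hVP hUV).to_sup_of_normal_left'
      ((T.2.to_le hRT).to_sup_of_normal_left' hc.1 (Subgroup.zpowers_le.mpr hcR)) ?_
    refine sup_le (fun r hr => ?_) (Subgroup.zpowers_le.mpr hcAct.mem_normalizer)
    exact Act.mem_normalizer (f := fg) (g := 1) (Act.of_centralizes (hRU r hr))
  obtain ⟨P, hP⟩ := (hP0.comap_of_injective Up.subtype Up.subtype_injective).exists_le_sylow
  set PX := (P : Subgroup Up).map Up.subtype with hPX
  have hPXp : IsPGroup p PX := P.2.map _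
  have hle0 : Ug ⊔ (R ⊔ Subgroup.zpowers c) ≤ PX := fun w hw =>
    ⟨⟨w, (sup_le hUgUp (sup_le hRUp (Subgroup.zpowers_le.mpr hcUp))) hw⟩, hP hw, rfl⟩
  have hyUp : ∀ x ∈ Up, (y : X) * x * (y : X)⁻¹ ∈ Up := by
    rintro x ⟨hx, s, hs⟩
    refine ⟨N.mul_mem (N.mul_mem (hYN y.2) hx) (N.inv_mem (hYN y.2)), (l : ZMod p) * l * s, ?_⟩
    rw [← tri_mul_up l 0 s]
    exact (hyAct.mul hs).mul (hyAct.inv hfgs)
  have hconj : cj (y : X) PX ≤ Up := by
    rintro _ ⟨_, ⟨x, -, rfl⟩, rfl⟩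
    exact hyUp x x.2
  obtain ⟨P₂, hP₂⟩ := ((hPXp.map (MulAut.conj (y : X)).toMonoidHom).comap_of_injective Up.subtype
    Up.subtype_injective).exists_le_sylow
  obtain ⟨w, hw⟩ := MulAction.exists_smul_eq Up P₂ P
  set t := (w : X) * (y : X) with ht
  have htP : t ∈ Subgroup.normalizer (PX : Set X) := by
    rw [Subgroup.mem_normalizer_iff_map_conj_eq]
    show cj t PX = PX
    refine Subgroup.eq_of_le_of_card_ge ?_ (card_cj t PX).ge
    rw [ht, ← cj_cj]
    rintro _ ⟨x, hx, rfl⟩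
    exact ⟨w * ⟨x, hconj hx⟩ * w⁻¹, hw ▸ ⟨⟨x, hconj hx⟩, hP₂ hx, rfl⟩, rfl⟩
  obtain ⟨-, sw, hsw⟩ := w.2
  have htAct : Act Ug fg t (tri l (sw * ((l⁻¹ : (ZMod p)ˣ) : ZMod p))) := by
    rw [← up_mul_tri]; exact hsw.mul hyAct
  set Q₁ := Subgroup.closure (Sig p V ∩ (PX : Set X)) with hQ₁
  have hQ₁P : Q₁ ≤ PX := (Subgroup.closure_le _).mpr fun _ h => h.2
  have hUQ₁ : Ug ≤ Q₁ := fun u hu => Subgroup.subset_closure
    ⟨mem_Sig_of_centralizes (hVP.to_le (Subgroup.zpowers_le.mpr (hUV hu))) (fun v hv =>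
      congrArg Subtype.val (mul_comm (⟨v, hv⟩ : V) ⟨u, hUV hu⟩)), hle0 (Subgroup.mem_sup_left hu)⟩
  have hRQ₁ : R ≤ Q₁ := hRgen.le.trans (Subgroup.closure_mono fun r hr =>
    ⟨hr.1, hle0 (Subgroup.mem_sup_right (Subgroup.mem_sup_left hr.2))⟩)
  have hcPX : c ∈ PX := hle0 (Subgroup.mem_sup_right (Subgroup.mem_sup_right (Subgroup.mem_zpowers c)))
  have hQ₁C : Q₁ ≤ C := (Subgroup.closure_le _).mpr fun e he =>
    htop PX hPXp (fun r hr => hle0 (Subgroup.mem_sup_right (Subgroup.mem_sup_left hr))) hcPX e he.1 he.2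
  have htQ₁ : t ∈ Subgroup.normalizer (Q₁ : Set X) := by
    rw [Subgroup.mem_normalizer_iff_map_conj_eq]
    show cj t Q₁ = Q₁
    refine Subgroup.eq_of_le_of_card_ge ?_ (card_cj t Q₁).ge
    rw [hQ₁, cj, MonoidHom.map_closure, Subgroup.closure_le]
    rintro _ ⟨e, ⟨he, heP⟩, rfl⟩
    exact Subgroup.subset_closure
      ⟨conj_mem_Sig t he, (Subgroup.mem_normalizer_iff.mp htP e).mp heP⟩
  obtain ⟨k, hk, hkT⟩ := exists_cj_le T hTz hQ₁C (hPXp.to_le hQ₁P)
  refine ⟨k * t * k⁻¹, cj k Q₁, hkT, mem_normalizer_cj htQ₁,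
    le_antisymm ?_ ((Subgroup.closure_le _).mpr fun _ hx => hx.2), ?_, ?_⟩
  · show Q₁.map (MulAut.conj k).toMonoidHom ≤ _
    rw [Subgroup.map_le_iff_le_comap, hQ₁, Subgroup.closure_le]
    intro e he
    exact Subgroup.subset_closure ⟨conj_mem_Sig k he.1, conj_mem_cj (Subgroup.subset_closure he)⟩
  · intro T' hT' hle e he heT
    have h1 : ∀ x ∈ Q₁, x ∈ cj k⁻¹ T' := fun x hx => by
      have := conj_mem_cj (g := k⁻¹) (hle (conj_mem_cj (g := k) hx))
      simpa [mul_assoc] using this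
    have h := htop (cj k⁻¹ T') (hT'.map _) (fun r hr => h1 r (hRQ₁ hr))
      (h1 c (Subgroup.subset_closure ⟨hc, hcPX⟩)) (k⁻¹ * e * k⁻¹⁻¹) (conj_mem_Sig _ he)
      (conj_mem_cj heT)
    have := C.mul_mem (C.mul_mem hk h) (C.inv_mem hk)
    simpa [mul_assoc] using this
  · have D : RawData l z t Q₁ := ⟨Ug, fg, hUQ₁, hfgs,
      fun q hq => ((hQ₁P hq) |> fun h => by obtain ⟨x, -, rfl⟩ := h; exact x.2.2),
      ⟨c, Subgroup.subset_closure ⟨hc, hcPX⟩, 1, one_ne_zero, hcAct⟩, ⟨_, htAct⟩,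
      ⟨⟨z, hzV⟩, hzU, rfl⟩, by
        show f _ = _
        exact hfz⟩
    have D' := D.map (MulAut.conj k).toMonoidHom (MulAut.conj k).injective (h := k * t * k⁻¹)
      (fun q _ => by simp [mul_assoc])
    rwa [show (MulAut.conj k).toMonoidHom z = z from hCz k hk] at D'

end CfsgLib.ZJFail
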