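import Mathlib
import Cfsg.Prelude.Def_LocalEven
import Cfsg.Agent.Lib.Qd.Basic
import Cfsg.Agent.Lib.ZJFail.Torus

/-!
Torus data with a generator of the units: the group `F(p)` is involved, and some subgroup of order
`p` of the abelian normalized subgroup has automizer of order `p - 1`.
-/

set_option autoImplicit false
set_option linter.style.haveILetI false
set_option linter.unusedSectionVars false

namespace CfsgLib.ZJFail

open CfsgLib.Conjugacy
open scoped MatrixGroups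

attribute [-simp] ZMod.inv_coe_unit Units.val_inv_eq_inv_val

variable {G : Type*} [Group G] [Finite G] {p : ℕ} [hp : Fact p.Prime]

/-- `[[l, *], [0, l⁻¹]]` powers. -/
theorem tri_pow_entries (l : (ZMod p)ˣ) (s : ZMod p) (n : ℕ) :
    (tri l s ^ n).1 1 0 = 0 ∧ (tri l s ^ n).1 0 0 = ((l ^ n : (ZMod p)ˣ) : ZMod p) := by
  obtain ⟨h1, h2⟩ := pow_entries (tri l s) (by simp [tri_coe]) n
  exact ⟨h1, h2.trans (by simp [tri_coe])⟩

theorem pow_half_eq_neg_one (hp2 : p ≠ 2) {l : (ZMod p)ˣ} (hl : orderOf l = p - 1) :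
    l ^ ((p - 1) / 2) = -1 := by
  obtain ⟨k, hk⟩ := hp.out.odd_of_ne_two hp2
  have h3 : 3 ≤ p := by have := hp.out.two_le; omega
  have h1 : ((l ^ ((p - 1) / 2) : (ZMod p)ˣ) : ZMod p) * ((l ^ ((p - 1) / 2) : (ZMod p)ˣ) : ZMod p) = 1 := by
    rw [← Units.val_mul, ← pow_add, show (p - 1) / 2 + (p - 1) / 2 = orderOf l by omega,
      pow_orderOf_eq_one, Units.val_one]
  rcases mul_self_eq_one_iff.mp h1 with h | h
  · exfalso
    have h4 := orderOf_dvd_of_pow_eq_one (Units.val_eq_one.mp h)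
    have h5 := Nat.le_of_dvd (by omega) h4
    omega
  · exact Units.ext (by rw [h, Units.val_neg, Units.val_one])

/-- `F(p)` as a section. -/
theorem involves_fOver (hp2 : p ≠ 2) {l : (ZMod p)ˣ} (hl : orderOf l = p - 1) {H Q : Subgroup G}
    {u h : G} (hh : h ∈ H) (hQH : Q ≤ H) (hQ : IsPGroup p Q)
    (hhQ : h ∈ Subgroup.normalizer (Q : Set G)) (D : RawData l u h Q) :
    Cfsg.Involves ↥(Cfsg.fOver (ZMod p)) ↥H := by
  classical
  obtain ⟨U, f, hUQ, hf, hact, ⟨q₀, hq₀, s₀, hs₀, hq₀s⟩, ⟨st, ht⟩, -, -⟩ := D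
  -- the central involution
  obtain ⟨a, m, hm, hord⟩ := Nat.exists_eq_two_pow_mul_odd (orderOf_pos h).ne'
  set N := (p - 1) / 2 * m with hN
  set tz := h ^ N with htz
  set g := tri l st ^ N with hg
  have hgact : Act U f tz g := ht.pow N
  obtain ⟨hg10, hg00⟩ := tri_pow_entries l st N
  rw [← hg] at hg10 hg00
  have hlN : l ^ N = -1 := by rw [hN, pow_mul, pow_half_eq_neg_one hp2 hl, hm.neg_one_pow]
  rw [hlN, Units.val_neg, Units.val_one] at hg00
  have hg11 : g.1 1 1 = -1 := by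
    have hd := SL2.det_eq g
    rw [hg10, hg00, mul_zero, sub_zero] at hd
    linear_combination -hd
  have htz2 : ∃ k : ℕ, orderOf tz = 2 ^ k := by
    have h2 : tz ^ 2 ^ a = 1 := by
      rw [htz, ← pow_mul, hN, show (p - 1) / 2 * m * 2 ^ a = (2 ^ a * m) * ((p - 1) / 2) by ring,
        ← hord, pow_mul, pow_orderOf_eq_one, one_pow]
    obtain ⟨k, -, hk⟩ := (Nat.dvd_prime_pow Nat.prime_two).mp (orderOf_dvd_of_pow_eq_one h2)
    exact ⟨k, hk⟩
  -- a fixed element moving `U`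
  let A : Subgroup G :=
    { carrier := {x | x ∈ Q ∧ Act U f x 1}
      one_mem' := ⟨Q.one_mem, Act.one⟩
      mul_mem' := fun {a b} ha hb => ⟨Q.mul_mem ha.1 hb.1, by simpa using ha.2.mul hb.2⟩
      inv_mem' := fun {a} ha => ⟨Q.inv_mem ha.1, by simpa using ha.2.inv hf⟩ }
  have htzQ : tz ∈ Subgroup.normalizer (Q : Set G) := pow_mem hhQ N
  have hA : ∀ x ∈ A, tz * x * tz⁻¹ ∈ A := fun x hx =>
    ⟨(Subgroup.mem_normalizer_iff.mp htzQ x).mp hx.1, by
      simpa using (hgact.mul hx.2).mul (hgact.inv hf)⟩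
  have htzA : tz ∈ Subgroup.normalizer (A : Set G) := by
    rw [Subgroup.mem_normalizer_iff_map_conj_eq]
    refine Subgroup.eq_of_le_of_card_ge ?_ (card_cj tz A).ge
    rintro _ ⟨x, hx, rfl⟩
    exact hA x hx
  have hconj : ∀ (x : G) (s : ZMod p), Act U f x (SL2.up s) → Act U f (tz * x * tz⁻¹) (SL2.up s) := by
    intro x s hx
    have e : g * SL2.up s * g⁻¹ = SL2.up s := by
      rw [mul_inv_eq_iff_eq_mul]
      apply SL2.ext2 <;> simp [SL2.mul_entry, SL2.up_coe, hg10, hg00, hg11]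
      ring
    exact e ▸ (hgact.mul hx).mul (hgact.inv hf)
  have hcop : (Nat.card (Subgroup.zpowers tz)).Coprime (Nat.card Q) := by
    obtain ⟨k, hk⟩ := htz2
    obtain ⟨j, hj⟩ := hQ.exists_card_eq
    rw [Nat.card_zpowers, hk, hj]
    exact Nat.Coprime.pow _ _ ((Nat.coprime_primes Nat.prime_two hp.out).mpr (Ne.symm hp2))
  obtain ⟨c, hc, hcA⟩ := Coprime.exists_centralizer_mem_coset (A := Subgroup.zpowers tz) (K := Q)
    (Subgroup.zpowers_le.mpr htzQ) hcop (Or.inl inferInstance) (N := A) (fun x hx => hx.1)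
    (Subgroup.zpowers_le.mpr htzA) hq₀ (fun w hw => by
      obtain ⟨i, rfl⟩ := Subgroup.mem_zpowers_iff.mp hw
      refine ⟨Q.mul_mem (Q.inv_mem hq₀) ((Subgroup.mem_normalizer_iff.mp (zpow_mem htzQ i) q₀).mp hq₀), ?_⟩
      obtain ⟨n, hn⟩ : ∃ n : ℕ, tz ^ i = tz ^ n :=
        ⟨_, (zpow_mod_orderOf tz i).symm.trans (by
          rw [← zpow_natCast, Int.toNat_of_nonneg (Int.emod_nonneg i
            (Int.natCast_ne_zero.mpr (orderOf_pos tz).ne'))])⟩
      rw [hn]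
      have h1 : ∀ n : ℕ, Act U f (tz ^ n * q₀ * (tz ^ n)⁻¹) (SL2.up s₀) := fun n => by
        induction n with
        | zero => simpa using hq₀s
        | succ n ih =>
          rw [show tz ^ (n + 1) * q₀ * (tz ^ (n + 1))⁻¹ = tz * (tz ^ n * q₀ * (tz ^ n)⁻¹) * tz⁻¹ by
            rw [pow_succ']; group]
          exact hconj _ _ ih
      simpa using (hq₀s.inv hf).mul (h1 n))
  have hcs : Act U f c (SL2.up s₀) := by
    have h := hq₀s.mul hcA.2
    rwa [mul_inv_cancel_left, mul_one] at h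
  -- the elements acting as upper triangular matrices
  let B : Subgroup G :=
    { carrier := {x | ∃ k, k.1 1 0 = 0 ∧ Act U f x k}
      one_mem' := ⟨1, by simp, Act.one⟩
      mul_mem' := fun {a b} ha hb => by
        obtain ⟨k, hk, hka⟩ := ha
        obtain ⟨k', hk', hkb⟩ := hb
        exact ⟨k * k', by rw [SL2.mul_entry, hk, hk']; ring, hka.mul hkb⟩
      inv_mem' := fun {a} ha => by
        obtain ⟨k, hk, hka⟩ := ha
        exact ⟨k⁻¹, by rw [(SL2.inv_entries k).2.2.1, hk, neg_zero], hka.inv hf⟩ }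
  have hQB : Q ≤ B := fun q hq => by
    obtain ⟨s, hs⟩ := hact q hq
    exact ⟨_, by simp [SL2.up_coe], hs⟩
  set N₀ := (Q ⊔ Subgroup.zpowers h) ⊓ Subgroup.centralizer ({tz} : Set G) with hN₀
  have hN₀B : N₀ ≤ B := inf_le_left.trans
    (sup_le hQB (Subgroup.zpowers_le.mpr ⟨_, by simp [tri_coe], ht⟩))
  have hN₀H : N₀ ≤ H := inf_le_left.trans (sup_le hQH (Subgroup.zpowers_le.mpr hh))
  choose σ hσ10 hσ using fun x : N₀ => hN₀B x.2
  have hσeq : ∀ (x : N₀) (k : SL(2, ZMod p)), Act U f (x : G) k → σ x = k := fun x k hk =>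
    (hσ x).unique hf hk
  have hσmul : ∀ x y : N₀, σ (x * y) = σ x * σ y := fun x y => hσeq _ _ ((hσ x).mul (hσ y))
  -- all upper triangular matrices occur
  have hhN₀ : h ∈ N₀ := ⟨Subgroup.mem_sup_right (Subgroup.mem_zpowers h),
    Subgroup.mem_centralizer_singleton_iff.mpr (by rw [htz]; exact (Commute.self_pow h N).eq)⟩
  have hcN₀ : c ∈ N₀ := ⟨Subgroup.mem_sup_left hc.1, Subgroup.mem_centralizer_singleton_iff.mpr
    (Subgroup.mem_centralizer_iff.mp hc.2 tz (Subgroup.mem_zpowers tz)).symm⟩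
  have hcpow : ∀ n : ℕ, SL2.up s₀ ^ n = SL2.up ((n : ZMod p) * s₀) := fun n => by
    induction n with
    | zero => simp [SL2.up_zero]
    | succ n ih => rw [pow_succ, ih, ← SL2.up_add]; congr 1; push_cast; ring
  have hsurj : ∀ k : SL(2, ZMod p), k.1 1 0 = 0 → ∃ x ∈ N₀, Act U f x k := by
    intro k hk
    have hd := SL2.det_eq k
    rw [hk, mul_zero, sub_zero] at hd
    let e : (ZMod p)ˣ := ⟨k.1 0 0, k.1 1 1, hd, by rw [mul_comm]; exact hd⟩
    have hgen : Subgroup.zpowers l = ⊤ := Subgroup.eq_top_of_card_eq _ (by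
      rw [Nat.card_zpowers, hl, Nat.card_eq_fintype_card, ZMod.card_units])
    obtain ⟨n, hn⟩ := (mem_powers_iff_mem_zpowers).mpr (hgen ▸ Subgroup.mem_top e)
    obtain ⟨h10, h00⟩ := tri_pow_entries l st n
    set r := (k.1 0 1 - (tri l st ^ n).1 0 1) * k.1 0 0 with hr
    refine ⟨c ^ (r / s₀).val * h ^ n, N₀.mul_mem (pow_mem hcN₀ _) (pow_mem hhN₀ _), ?_⟩
    have heq : SL2.up r * tri l st ^ n = k := by
      have hd' := SL2.det_eq (tri l st ^ n)
      rw [h10, mul_zero, sub_zero] at hd'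
      have e00 : (tri l st ^ n).1 0 0 = k.1 0 0 := h00.trans (congrArg Units.val hn)
      have e11 : (tri l st ^ n).1 1 1 = k.1 1 1 := by
        rw [e00] at hd'
        exact mul_left_cancel₀ (left_ne_zero_of_mul_eq_one hd) (hd'.trans hd.symm)
      apply SL2.ext2 <;> simp [SL2.mul_entry, SL2.up_coe, h10, e00, e11, hk]
      rw [hr]
      linear_combination (k.1 0 1 - (tri l st ^ n).1 0 1) * hd
    have h1 : SL2.up s₀ ^ (r / s₀).val = SL2.up r := by
      rw [hcpow, ZMod.natCast_val, ZMod.cast_id, div_mul_cancel₀ _ hs₀]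
    rw [← heq, ← h1]
    exact (hcs.pow _).mul (ht.pow n)
  -- `U` and `N₀`
  have hUN : ∀ x ∈ N₀, ∀ hx : x ∈ U, f ⟨x, hx⟩ = 1 := by
    intro x hxN hx
    have hcm : tz * x * tz⁻¹ = x := by
      rw [mul_inv_eq_iff_eq_mul]
      exact (Subgroup.mem_centralizer_singleton_iff.mp hxN.2).symm
    obtain ⟨h1, e1⟩ := hgact ⟨x, hx⟩
    have e2 : (f ⟨_, h1⟩).toAdd = (f ⟨x, hx⟩).toAdd :=
      congrArg (fun v => (f v).toAdd) (Subtype.ext hcm)
    rw [e2, mulVec_fin_two, hg00, hg10, hg11] at e1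
    set v := (f ⟨x, hx⟩).toAdd with hv
    have h2 : (2 : ZMod p) ≠ 0 := SL2.two_ne hp2
    have v1 : v 1 = 0 := by
      have := congrFun e1 1
      simp at this
      exact (mul_eq_zero.mp (show (2 : ZMod p) * v 1 = 0 by linear_combination this)).resolve_left h2
    have v0 : v 0 = 0 := by
      have := congrFun e1 0
      simp [v1] at this
      exact (mul_eq_zero.mp (show (2 : ZMod p) * v 0 = 0 by linear_combination this)).resolve_left h2
    apply Multiplicative.toAdd.injective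
    rw [toAdd_one, ← hv]
    ext i : 1
    fin_cases i
    · exact v0
    · exact v1
  -- the product `U N₀`
  have hN₀U : ∀ n ∈ N₀, ∀ w ∈ U, n * w * n⁻¹ ∈ U := fun n hn w hw => (hσ ⟨n, hn⟩ ⟨w, hw⟩).1
  let K : Subgroup G :=
    { carrier := {x | ∃ w ∈ U, ∃ n ∈ N₀, x = w * n}
      one_mem' := ⟨1, U.one_mem, 1, N₀.one_mem, by simp⟩
      mul_mem' := by
        rintro _ _ ⟨w, hw, n, hn, rfl⟩ ⟨v, hv, n', hn', rfl⟩
        exact ⟨w * (n * v * n⁻¹), U.mul_mem hw (hN₀U n hn v hv), n * n', N₀.mul_mem hn hn', by group⟩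
      inv_mem' := by
        rintro _ ⟨w, hw, n, hn, rfl⟩
        exact ⟨n⁻¹ * w⁻¹ * n⁻¹⁻¹, hN₀U _ (N₀.inv_mem hn) _ (U.inv_mem hw), n⁻¹, N₀.inv_mem hn, by group⟩ }
  have hKH : K ≤ H := by
    rintro _ ⟨w, hw, n, hn, rfl⟩
    exact H.mul_mem (hQH (hUQ hw)) (hN₀H hn)
  have hdec : ∀ k : K, ∃ (w : U) (n : N₀), (k : G) = w * (n : G) := by
    rintro ⟨_, w, hw, n, hn, rfl⟩
    exact ⟨⟨w, hw⟩, ⟨n, hn⟩, rfl⟩
  choose cu cn hck using hdec
  have hwd : ∀ (k : K) (w : U) (n : N₀), (k : G) = w * (n : G) →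
      Qd.el (σ (cn k)) (f (cu k)).toAdd = Qd.el (σ n) (f w).toAdd := by
    intro k w n hk
    have h1 : ((cu k : G))⁻¹ * w = ((cn k * n⁻¹ : N₀) : G) := by
      rw [Subgroup.coe_mul, Subgroup.coe_inv, inv_mul_eq_iff_eq_mul, ← mul_assoc, ← hck k, hk]
      group
    have h2 : ((cn k * n⁻¹ : N₀) : G) ∈ U := h1 ▸ U.mul_mem (U.inv_mem (cu k).2) w.2
    have h3 : σ (cn k * n⁻¹) = 1 := by
      refine hσeq _ _ fun v => ⟨mul_mem (mul_mem h2 v.2) (inv_mem h2), ?_⟩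
      rw [show (⟨_, mul_mem (mul_mem h2 v.2) (inv_mem h2)⟩ : U) = ⟨_, h2⟩ * v * (⟨_, h2⟩ : U)⁻¹ from rfl,
        map_mul f, map_mul f, map_inv f, mul_comm (f ⟨_, h2⟩) (f v), mul_inv_cancel_right,
        Matrix.SpecialLinearGroup.coe_one, Matrix.one_mulVec]
    have h3' : σ (cn k) = σ n := by
      have := hσmul (cn k * n⁻¹) n
      rwa [inv_mul_cancel_right, h3, one_mul] at this
    have h4 := hUN _ (cn k * n⁻¹).2 h2
    rw [show (⟨_, h2⟩ : U) = (cu k)⁻¹ * w from Subtype.ext h1.symm, map_mul, map_inv,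
      inv_mul_eq_one] at h4
    rw [h3', h4]
  let F : K →* ↥(Cfsg.qd p) := MonoidHom.mk' (fun k => Qd.el (σ (cn k)) (f (cu k)).toAdd) fun x y => by
    obtain ⟨hv, ev⟩ := hσ (cn x) (cu y)
    refine (hwd (x * y) (cu x * ⟨_, hv⟩) (cn x * cn y) ?_).trans ?_
    · rw [Subgroup.coe_mul, hck x, hck y, Subgroup.coe_mul, Subgroup.coe_mul]
      show _ = (cu x : G) * ((cn x : G) * (cu y : G) * (cn x : G)⁻¹) * _
      group
    · rw [Qd.el_mul, hσmul, map_mul, toAdd_mul, ev]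
  let F' : K →* SL(3, ZMod p) := (Cfsg.qd p).subtype.comp F
  have hrange : F'.range = Cfsg.fOver (ZMod p) := by
    refine le_antisymm ?_ ((Subgroup.closure_le _).mpr ?_)
    · rintro _ ⟨k, rfl⟩
      refine Subgroup.subset_closure ⟨?_, ?_, ?_, ?_⟩ <;>
        simp [F', F, Qd.el, Qd.aff_coe, hσ10]
    · rintro M ⟨h10, h20, h21, h22⟩
      obtain ⟨k, v, rfl⟩ := Qd.mem_of_last_row h20 h21 h22
      obtain ⟨n, hn, hnk⟩ := hsurj k (by simpa [Qd.aff_coe] using h10)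
      obtain ⟨w, hw⟩ := hf (Multiplicative.ofAdd v)
      refine ⟨⟨(w : G) * n, w, w.2, n, hn, rfl⟩, ?_⟩
      show ((F _ : ↥(Cfsg.qd p)) : SL(3, ZMod p)) = _
      rw [show F ⟨(w : G) * n, w, w.2, n, hn, rfl⟩ = Qd.el (σ ⟨n, hn⟩) (f w).toAdd from
        hwd _ w ⟨n, hn⟩ rfl, hσeq ⟨n, hn⟩ k hnk, hw, toAdd_ofAdd]
      rfl
  let ψ : K →* ↥(Cfsg.fOver (ZMod p)) := F'.codRestrict _ fun k => hrange ▸ ⟨k, rfl⟩
  refine Offender.involves_of_hom (K := K.subgroupOf H)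
    (ψ.comp (Subgroup.subgroupOfEquivOfLe hKH).toMonoidHom) ?_
  intro y
  obtain ⟨k, hk⟩ := hrange.ge y.2
  obtain ⟨k', rfl⟩ := (Subgroup.subgroupOfEquivOfLe hKH).surjective k
  exact ⟨k', Subtype.ext hk⟩

/-- A subgroup of order `p` of `Z` with full automizer. -/
theorem exists_full_automizer {l : (ZMod p)ˣ} (hl : orderOf l = p - 1) {H Z Q : Subgroup G}
    {u h : G} (hh : h ∈ H) (hHZ : H ≤ Subgroup.normalizer (Z : Set G))
    (hZ : ∀ x ∈ Z, ∀ y ∈ Z, x * y = y * x) (hu : u ∈ Z) (hQ : IsPGroup p Q)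
    (D : RawData l u h Q) :
    ∃ C : Subgroup G, C ≤ Z ∧ Nat.card C = p ∧
      (H ⊓ Subgroup.centralizer (C : Set G)).relIndex (H ⊓ Subgroup.normalizer (C : Set G)) = p - 1 := by
  classical
  obtain ⟨U, f, hUQ, hf, -, -, ⟨st, ht⟩, hz, hfz⟩ := D
  let U₁ : Subgroup G :=
    { carrier := {x | x ∈ Z ∧ ∃ hx : x ∈ U, (f ⟨x, hx⟩).toAdd 1 = 0}
      one_mem' := ⟨Z.one_mem, U.one_mem, by rw [show (⟨1, U.one_mem⟩ : U) = 1 from rfl, map_one]; rfl⟩
      mul_mem' := by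
        rintro a b ⟨ha, ha', ea⟩ ⟨hb, hb', eb⟩
        refine ⟨Z.mul_mem ha hb, U.mul_mem ha' hb', ?_⟩
        rw [show (⟨a * b, U.mul_mem ha' hb'⟩ : U) = ⟨a, ha'⟩ * ⟨b, hb'⟩ from rfl, map_mul, toAdd_mul,
          Pi.add_apply, ea, eb, add_zero]
      inv_mem' := by
        rintro a ⟨ha, ha', ea⟩
        refine ⟨Z.inv_mem ha, U.inv_mem ha', ?_⟩
        rw [show (⟨a⁻¹, U.inv_mem ha'⟩ : U) = ⟨a, ha'⟩⁻¹ from rfl, map_inv, toAdd_inv, Pi.neg_apply,
          ea, neg_zero] }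
  let φ : U₁ → ZMod p := fun x => (f ⟨x, x.2.2.1⟩).toAdd 0
  have hconj : ∀ x : U₁, ∃ hx : h * x * h⁻¹ ∈ U₁, φ ⟨_, hx⟩ = (l : ZMod p) * φ x := by
    intro x
    obtain ⟨h1, e1⟩ := ht ⟨x, x.2.2.1⟩
    have hv : (f ⟨x, x.2.2.1⟩).toAdd 1 = 0 := x.2.2.2
    refine ⟨⟨(Subgroup.mem_normalizer_iff.mp (hHZ hh) _).mp x.2.1, h1, ?_⟩, ?_⟩
    · rw [e1, mulVec_fin_two, tri_coe]
      simp [hv]
    · show (f ⟨_, h1⟩).toAdd 0 = _
      rw [e1, mulVec_fin_two, tri_coe]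
      simp [hv, φ]
  have hU₁c : ∀ x y : U₁, Commute x y := fun x y => Subtype.ext (hZ _ x.2.1 _ y.2.1)
  have hφmul : ∀ x y : U₁, φ (x * y) = φ x + φ y := fun x y => by
    show (f ⟨(x : G) * y, _⟩).toAdd 0 = _
    rw [show (⟨(x : G) * y, (x * y).2.2.1⟩ : U) = ⟨x, x.2.2.1⟩ * ⟨y, y.2.2.1⟩ from rfl, map_mul]
    rfl
  have hφpow : ∀ (x : U₁) (n : ℕ), φ (x ^ n) = (n : ZMod p) * φ x := by
    intro x n
    induction n with
    | zero =>
      rw [pow_zero, Nat.cast_zero, zero_mul]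
      show (f (1 : U)).toAdd 0 = 0
      rw [map_one]
      rfl
    | succ n ih => rw [pow_succ, hφmul, ih]; push_cast; ring
  set v := (l : ZMod p).val with hv
  let θ : U₁ → U₁ := fun x => ⟨h * x * h⁻¹, (hconj x).1⟩
  have hθmul : ∀ x y : U₁, θ (x * y) = θ x * θ y := fun x y => Subtype.ext (by
    show h * ((x : G) * y) * h⁻¹ = (h * x * h⁻¹) * (h * y * h⁻¹)
    group)
  let β : U₁ →* U₁ := MonoidHom.mk' (fun x => θ x * (x ^ v)⁻¹) fun x y => by
    rw [(hU₁c x y).mul_pow, hθmul, mul_inv_rev]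
    calc θ x * θ y * ((y ^ v)⁻¹ * (x ^ v)⁻¹) = θ x * ((θ y * (y ^ v)⁻¹) * (x ^ v)⁻¹) := by group
      _ = θ x * ((x ^ v)⁻¹ * (θ y * (y ^ v)⁻¹)) := by rw [(hU₁c (θ y * (y ^ v)⁻¹) (x ^ v)⁻¹).eq]
      _ = _ := by group
  have hφβ : ∀ x, φ (β x) = 0 := fun x => by
    have h1 : φ (θ x) = φ (β x) + φ (x ^ v) := by
      rw [← hφmul]
      congr 1
      show θ x = θ x * (x ^ v)⁻¹ * x ^ v
      group
    rw [hφpow, hv, ZMod.natCast_val, ZMod.cast_id, show φ (θ x) = _ from (hconj x).2] at h1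
    linear_combination -h1
  have hu₁ : u ∈ U₁ := ⟨hu, hz, by rw [hfz]; rfl⟩
  have hnsurj : ¬ Function.Surjective β := fun hs => by
    obtain ⟨x, hx⟩ := hs ⟨u, hu₁⟩
    have h1 := hφβ x
    rw [hx] at h1
    exact one_ne_zero (α := ZMod p) ((congrFun hfz 0).symm.trans h1)
  have hker : β.ker ≠ ⊥ := fun h0 =>
    hnsurj (Finite.surjective_of_injective ((MonoidHom.ker_eq_bot_iff β).mp h0))
  have hU₁p : IsPGroup p U₁ := hQ.to_le fun x hx => hUQ hx.2.1
  obtain ⟨⟨x₀, hx₀⟩, hx₀p⟩ := exists_prime_orderOf_dvd_card' (G := β.ker) p (by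
    obtain ⟨k, hk⟩ := (hU₁p.to_subgroup β.ker).exists_card_eq
    rw [hk]
    refine dvd_pow_self p fun h0 => hker ?_
    rw [h0, pow_zero] at hk
    exact Subgroup.eq_bot_of_card_eq _ hk)
  set x := (x₀ : G) with hx
  have hxp : orderOf x = p := by
    rw [← Subgroup.orderOf_coe] at hx₀p
    rw [hx, Subgroup.orderOf_coe]
    exact hx₀p
  have hhx : h * x * h⁻¹ = x ^ v := by
    have h1 := mul_inv_eq_one.mp (show θ x₀ * (x₀ ^ v)⁻¹ = 1 from hx₀)
    exact congrArg Subtype.val h1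
  have hhpow : ∀ n : ℕ, h ^ n * x * (h ^ n)⁻¹ = x ^ (v ^ n) := by
    intro n
    induction n with
    | zero => simp
    | succ n ih =>
      calc h ^ (n + 1) * x * (h ^ (n + 1))⁻¹ = h * (h ^ n * x * (h ^ n)⁻¹) * h⁻¹ := by
            rw [pow_succ']; group
        _ = (h * x * h⁻¹) ^ (v ^ n) := by rw [ih, conj_pow]
        _ = x ^ (v ^ (n + 1)) := by rw [hhx, ← pow_mul, pow_succ']
  set C := Subgroup.zpowers x with hC
  refine ⟨C, Subgroup.zpowers_le.mpr x₀.2.1, by rw [hC, Nat.card_zpowers, hxp], ?_⟩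
  set M := H ⊓ Subgroup.normalizer (C : Set G) with hM
  have hhM : h ∈ M := ⟨hh, by
    show h ∈ Subgroup.normalizer (C : Set G)
    rw [Subgroup.mem_normalizer_iff_map_conj_eq]
    refine Subgroup.eq_of_le_of_card_ge ?_ (card_cj h C).ge
    rw [MonoidHom.map_zpowers, Subgroup.zpowers_le]
    show h * x * h⁻¹ ∈ C
    rw [hhx]
    exact pow_mem (Subgroup.mem_zpowers x) v⟩
  letI : MulAction M G :=
    { smul := fun m y => (m : G) * y * (m : G)⁻¹
      one_smul := fun y => by show ((1 : M) : G) * y * ((1 : M) : G)⁻¹ = y; simp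
      mul_smul := fun m m' y => by
        show ((m * m' : M) : G) * y * ((m * m' : M) : G)⁻¹ =
          (m : G) * ((m' : G) * y * (m' : G)⁻¹) * (m : G)⁻¹
        rw [Subgroup.coe_mul]; group }
  have hstab : (H ⊓ Subgroup.centralizer (C : Set G)).subgroupOf M = MulAction.stabilizer M x := by
    ext m
    rw [Subgroup.mem_subgroupOf, Subgroup.mem_inf, MulAction.mem_stabilizer_iff]
    show _ ↔ (m : G) * x * (m : G)⁻¹ = x
    constructor
    · intro hm
      rw [mul_inv_eq_iff_eq_mul]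
      exact (Subgroup.mem_centralizer_iff.mp hm.2 x (Subgroup.mem_zpowers x)).symm
    · intro hm
      refine ⟨m.2.1, Subgroup.mem_centralizer_iff.mpr fun y hy => ?_⟩
      obtain ⟨i, rfl⟩ := Subgroup.mem_zpowers_iff.mp hy
      exact (Commute.zpow_left (mul_inv_eq_iff_eq_mul.mp hm).symm i).eq
  have horb : MulAction.orbit M x = (C : Set G) \ {1} := by
    ext y
    constructor
    · rintro ⟨m, rfl⟩
      refine ⟨(Subgroup.mem_normalizer_iff.mp m.2.2 x).mp (Subgroup.mem_zpowers x), fun h1 => ?_⟩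
      have h2 : x = 1 := conj_eq_one_iff.mp (Set.mem_singleton_iff.mp h1)
      rw [h2, orderOf_one] at hxp
      exact hp.out.ne_one hxp.symm
    · rintro ⟨hy, hy1⟩
      obtain ⟨i, rfl⟩ := Subgroup.mem_zpowers_iff.mp hy
      have hi : ((i : ℤ) : ZMod p) ≠ 0 := fun h0 => hy1 (by
        obtain ⟨j, rfl⟩ := (ZMod.intCast_zmod_eq_zero_iff_dvd i p).mp h0
        rw [Set.mem_singleton_iff, zpow_mul, zpow_natCast, ← hxp, pow_orderOf_eq_one, one_zpow])
      have hgen : Subgroup.zpowers l = ⊤ := Subgroup.eq_top_of_card_eq _ (by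
        rw [Nat.card_zpowers, hl, Nat.card_eq_fintype_card, ZMod.card_units])
      obtain ⟨n, hn⟩ := (mem_powers_iff_mem_zpowers).mpr (hgen ▸ Subgroup.mem_top (Units.mk0 _ hi))
      refine ⟨⟨h ^ n, pow_mem hhM n⟩, ?_⟩
      show h ^ n * x * (h ^ n)⁻¹ = x ^ i
      rw [hhpow, ← zpow_natCast, zpow_eq_zpow_iff_modEq, hxp, ← ZMod.intCast_eq_intCast_iff]
      push_cast
      rw [hv, ZMod.natCast_val, ZMod.cast_id]
      exact congrArg Units.val hn
  rw [Subgroup.relIndex, hstab, MulAction.index_stabilizer, horb,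
    Set.ncard_sdiff_singleton_of_mem (Subgroup.one_mem C), ← Nat.card_coe_set_eq,
    show Nat.card (C : Set G) = Nat.card C from rfl, hC, Nat.card_zpowers, hxp]

end CfsgLib.ZJFail
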