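import Mathlib
import Cfsg.Agent.Lib.ZJ.Core
import Cfsg.Agent.Lib.Transfer.ThompsonBasics
import Cfsg.Agent.Lib.ZJFail.Torus

/-!
`z` a central element of order `p` of the Sylow subgroup, lying in the `p`-core. If no map of the
ambient `H` carries torus data at `z`, all conjugation maps are realised in `H`.
-/

set_option autoImplicit false
set_option linter.style.haveILetI false
set_option linter.unusedSectionVars false

namespace CfsgLib.ZJFail

open CfsgLib.Conjugacy CfsgLib.Transfer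
open scoped commutatorElement

variable {X Γ : Type*} [Group X] [Finite X] [Group Γ] {p : ℕ} [hp : Fact p.Prime]

/-- The normal closure of a central element of order `p` of a Sylow subgroup in the `p`-core is
elementary abelian. -/
theorem isElementaryAbelian_normalClosure (T : Sylow p X) {z : X}
    (hTz : (T : Subgroup X) ≤ Subgroup.centralizer ({z} : Set X)) (hzp : z ^ p = 1)
    (hz : z ∈ Cfsg.pCore p X) :
    Cfsg.IsElementaryAbelian p (Subgroup.normalClosure ({z} : Set X)) := by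
  haveI := Fitting.pCore_normal (G := X) p
  have hO : Cfsg.pCore p X ≤ (T : Subgroup X) :=
    ZJ.normal_le_sylow (Fitting.pCore_isPGroup p) T
  have hVO : Subgroup.normalClosure ({z} : Set X) ≤ Cfsg.pCore p X :=
    Subgroup.normalClosure_le_normal (by simpa using hz)
  have hgen : ∀ w ∈ Group.conjugatesOfSet ({z} : Set X),
      w ^ p = 1 ∧ ∀ v ∈ Cfsg.pCore p X, v * w = w * v := by
    intro w hw
    obtain ⟨z', rfl, hc⟩ := Group.mem_conjugatesOfSet_iff.mp hw
    obtain ⟨g, rfl⟩ := isConj_iff.mp hc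
    refine ⟨by rw [conj_pow, hzp, mul_one, mul_inv_cancel], fun v hv => ?_⟩
    have h1 : g⁻¹ * v * g⁻¹⁻¹ ∈ Cfsg.pCore p X :=
      Subgroup.Normal.conj_mem inferInstance v hv g⁻¹
    have h2 := Subgroup.mem_centralizer_singleton_iff.mp (hTz (hO h1))
    calc v * (g * z' * g⁻¹) = g * ((g⁻¹ * v * g⁻¹⁻¹) * z') * g⁻¹ := by group
      _ = g * (z' * (g⁻¹ * v * g⁻¹⁻¹)) * g⁻¹ := by rw [h2]
      _ = g * z' * g⁻¹ * v := by group
  have hcent : Subgroup.normalClosure ({z} : Set X) ≤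
      Subgroup.centralizer (Cfsg.pCore p X : Set X) :=
    (Subgroup.closure_le _).mpr fun w hw =>
      Subgroup.mem_centralizer_iff.mpr fun v hv => (hgen w hw).2 v hv
  refine ⟨⟨⟨fun a b => Subtype.ext
    (Subgroup.mem_centralizer_iff.mp (hcent b.2) a (hVO a.2))⟩⟩, fun a ha => ?_⟩
  induction ha using Subgroup.closure_induction with
  | mem w hw => exact (hgen w hw).1
  | one => exact one_pow p
  | mul u v hu hv h1 h2 =>
    have h3 : Commute u v := Subgroup.mem_centralizer_iff.mp (hcent hv) u (hVO hu)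
    rw [h3.mul_pow, h1, h2, one_mul]
  | inv u _ h1 => rw [inv_pow, h1, inv_one]

variable (hp2 : p ≠ 2) (l : (ZMod p)ˣ) (T : Sylow p X) (ι : X →* Γ) (hι : Function.Injective ι)
  (H : Subgroup Γ) (z : X) (hTz : (T : Subgroup X) ≤ Subgroup.centralizer ({z} : Set X))
  (hzp : z ^ p = 1) (hz : z ∈ Cfsg.pCore p X)
  (hC : ∀ (B : Subgroup X) (y : X), y ∈ Subgroup.centralizer ({z} : Set X) →
    B ≤ T → cj y B ≤ T → Good ι H B y)
  (hover : ∀ Y : Subgroup X, (T : Subgroup X) ≤ Y → Y ≠ ⊤ →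
    ∀ (B : Subgroup X) (y : X), y ∈ Y → B ≤ T → cj y B ≤ T → Good ι H B y)
  (hdata : ∀ (Q : Subgroup Γ), Q ≤ (T : Subgroup X).map ι → ∀ h ∈ H,
    h ∈ Subgroup.normalizer (Q : Set Γ) → ¬ RawData l (ι z) h Q)

include hp2 l ι hι H hTz hzp hz hC hover hdata

/-- No element of `T` acts quadratically and non-trivially. -/
theorem not_quadratic {a : X} (ha : a ∈ (T : Subgroup X))
    (hq : ⁅⁅Subgroup.normalClosure ({z} : Set X), Subgroup.zpowers a⁆, Subgroup.zpowers a⁆ = ⊥) :
    a ∈ Subgroup.centralizer ((Subgroup.normalClosure ({z} : Set X) : Subgroup X) : Set X) := by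
  by_contra haV
  set V := Subgroup.normalClosure ({z} : Set X) with hV
  have haS : a ∈ Sig p V := ⟨T.2.to_le (Subgroup.zpowers_le.mpr ha), hq⟩
  obtain ⟨e₀, he₀, he₀z⟩ : ∃ e ∈ Sig p V, e ∉ Subgroup.centralizer ({z} : Set X) := by
    by_contra! h
    refine haV ?_
    have hle : V ≤ Subgroup.centralizer ({a} : Set X) := (Subgroup.closure_le _).mpr fun w hw => by
      obtain ⟨z', rfl, hc⟩ := Group.mem_conjugatesOfSet_iff.mp hw
      obtain ⟨g, rfl⟩ := isConj_iff.mp hc
      refine Subgroup.mem_centralizer_singleton_iff.mpr ?_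
      have h1 := Subgroup.mem_centralizer_singleton_iff.mp (h _ (conj_mem_Sig (V := V) g⁻¹ haS))
      calc g * z' * g⁻¹ * a = g * (z' * (g⁻¹ * a * g⁻¹⁻¹)) * g⁻¹ := by group
        _ = g * ((g⁻¹ * a * g⁻¹⁻¹) * z') * g⁻¹ := by rw [h1]
        _ = a * (g * z' * g⁻¹) := by group
    exact Subgroup.mem_centralizer_iff.mpr fun v hv =>
      Subgroup.mem_centralizer_singleton_iff.mp (hle hv)
  obtain ⟨t, Q, hQT, htQ, hQgen, htop, D⟩ := exists_rawData hp2 l T V
    (isElementaryAbelian_normalClosure T hTz hzp hz) (Subgroup.subset_normalClosure rfl) hTz he₀ he₀z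
  obtain ⟨h, hh, hhq⟩ := good_normalizer_of_top ι H T _ hTz (Sig p V)
    (fun g e he => conj_mem_Sig g he) (fun e he => he.1) he₀ he₀z hC hover hQT hQgen htop t htQ
  refine hdata (Q.map ι) (Subgroup.map_mono hQT) h hh ?_ (D.map ι hι hhq)
  have hfin : Finite (Q.map ι) := by
    exact Finite.of_surjective _ (ι.subgroupMap_surjective Q)
  rw [Subgroup.mem_normalizer_iff_map_conj_eq]
  refine Subgroup.eq_of_le_of_card_ge ?_ (card_cj h _).ge
  rintro _ ⟨_, ⟨q, hq, rfl⟩, rfl⟩
  exact ⟨t * q * t⁻¹, (Subgroup.mem_normalizer_iff.mp htQ q).mp hq, hhq q hq⟩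

/-- **The step.** -/
theorem good_of_core
    (hJ : ∀ (B : Subgroup X) (y : X),
      y ∈ Subgroup.normalizer ((thompsonJ 0 (T : Subgroup X) : Subgroup X) : Set X) →
        B ≤ T → cj y B ≤ T → Good ι H B y)
    {A : Subgroup X} {g : X} (hA : A ≤ T) (hgA : cj g A ≤ T) : Good ι H A g := by
  classical
  haveI := Fintype.ofFinite (Subgroup X)
  set V := Subgroup.normalClosure ({z} : Set X) with hV
  have hel := isElementaryAbelian_normalClosure T hTz hzp hz
  have hVT : V ≤ (T : Subgroup X) := ZJ.normal_le_sylow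
    (fun v => ⟨1, Subtype.ext (by rw [pow_one]; exact hel.2 _ v.2)⟩) T
  have hVc : ∀ x ∈ V, ∀ y ∈ V, x * y = y * x := fun x hx y hy =>
    congrArg Subtype.val (hel.1.is_comm.comm (⟨x, hx⟩ : V) ⟨y, hy⟩)
  set C := Subgroup.centralizer (V : Set X) with hCV
  haveI : C.Normal := inferInstance
  have hall : ∀ A₁ ∈ maxAbExp 0 (T : Subgroup X), A₁ ≤ C := by
    by_contra! h
    obtain ⟨A₀, hA₀, hA₀C⟩ := h
    obtain ⟨A₁, hA₁, hmax⟩ := Finset.exists_max_image
      (Finset.univ.filter fun A : Subgroup X => A ∈ maxAbExp 0 (T : Subgroup X) ∧ ¬ A ≤ C)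
      (fun A => Nat.card (A ⊓ V : Subgroup X))
      ⟨A₀, Finset.mem_filter.mpr ⟨Finset.mem_univ _, hA₀, hA₀C⟩⟩
    simp only [Finset.mem_filter, Finset.mem_univ, true_and] at hA₁ hmax
    obtain ⟨hA₁, hA₁C⟩ := hA₁
    by_cases hn : V ≤ Subgroup.normalizer (A₁ : Set X)
    · obtain ⟨a, ha, haC⟩ := SetLike.not_le_iff_exists.mp hA₁C
      have hAc : ∀ x ∈ A₁, ∀ y ∈ A₁, x * y = y * x := fun x hx y hy =>
        congrArg Subtype.val (hA₁.2.1.1.is_comm.comm (⟨x, hx⟩ : A₁) ⟨y, hy⟩)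
      exact haC (not_quadratic hp2 l T ι hι H z hTz hzp hz hC hover hdata (hA₁.1 ha)
        (ZJ.quadratic_of_normalizes hAc hn ha))
    obtain ⟨A₂, hA₂, hlt, hA₂N⟩ := ZJ.glauberman_replacement hp2 (Or.inl rfl) T.2 hA₁ hVT
      (Subgroup.le_normalizer_of_normal)
      (fun x hx y hy a _ => by
        rw [show ⁅x, y⁆ = 1 from commutatorElement_eq_one_iff_mul_comm.mpr (hVc x hx y hy),
          mul_one, one_mul])
      (fun x hx y hy w _ => by
        rw [show ⁅x, y⁆ = 1 from commutatorElement_eq_one_iff_mul_comm.mpr (hVc x hx y hy),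
          mul_one, one_mul])
      hn
    by_cases hA₂C : A₂ ≤ C
    · refine hn fun v hv => hA₂N (ZJ.mem_of_commute hA₂ (hVT hv) (pow_zero v) fun a ha => ?_)
      exact (Subgroup.mem_centralizer_iff.mp (hA₂C ha) v hv).symm
    · have h1 := hmax A₂ ⟨hA₂, hA₂C⟩
      exact absurd h1 (not_le.mpr (card_lt_card hlt))
  have hJle : thompsonJ 0 (T : Subgroup X) ≤ (T : Subgroup X) ⊓ C :=
    sSup_le fun A₁ hA₁ => le_inf hA₁.1 (hall A₁ hA₁)
  have hzV : z ∈ V := Subgroup.subset_normalClosure rfl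
  refine good_of_frattini ι H T C (fun B y hy => hC B y (sup_le ?_ hTz hy))
    (fun B y hy => hJ B y ?_) hA hgA
  · exact Subgroup.centralizer_le (by simpa using hzV)
  · rw [← thompsonJ_eq_of_le hJle inf_le_left]
    exact normalizer_le_normalizer_thompsonJ 0 _ hy

end CfsgLib.ZJFail
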