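import Mathlib
import Cfsg.Agent.Lib.ZJFail.Step

/-!
`z` a non-central element of order `p` in the centre of a Sylow subgroup `S`. If the maps inside
proper overgroups of `S` are realised in `H` and no element of `H` carries torus data at `z`, all
conjugation maps are realised in `H`.
-/

set_option autoImplicit false
set_option linter.style.haveILetI false
set_option linter.unusedSectionVars false

namespace CfsgLib.ZJFail

open CfsgLib.Conjugacy CfsgLib.Transfer
open scoped commutatorElement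

variable {Γ : Type*} [Group Γ] {p : ℕ} [hp : Fact p.Prime]

theorem Good.of_map_subtype {H : Subgroup Γ} {Y : Subgroup Γ} {B : Subgroup Y} {y : Y}
    (h : Good (MonoidHom.id Γ) H (B.map Y.subtype) (y : Γ)) : Good Y.subtype H B y := by
  obtain ⟨k, hk, hka⟩ := h
  exact ⟨k, hk, fun a ha => hka a ⟨a, ha, rfl⟩⟩

theorem cj_map_subtype {Y : Subgroup Γ} (B : Subgroup Y) (y : Y) :
    cj (y : Γ) (B.map Y.subtype) = (cj y B).map Y.subtype := by
  rw [cj, cj, Subgroup.map_map, Subgroup.map_map]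
  rfl

variable [Finite Γ]

theorem mem_pCore_of_le_normalizer {W Y : Subgroup Γ} (hW : IsPGroup p W) (hWY : W ≤ Y)
    (hYW : Y ≤ Subgroup.normalizer (W : Set Γ)) {z : Γ} (hz : z ∈ W) :
    (⟨z, hWY hz⟩ : Y) ∈ Cfsg.pCore p Y := by
  have hn : (W.subgroupOf Y).Normal := (Subgroup.normal_subgroupOf_iff_le_normalizer hWY).mpr hYW
  exact Fitting.le_pCore hn (hW.comap_of_injective Y.subtype Y.subtype_injective) hz

/-- A fully normalized subgroup: `S ⊓ N(R)` is a Sylow subgroup of `N(R)`. -/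
theorem exists_sylow_normalizer (S : Sylow p Γ) (R : Subgroup Γ)
    (hsyl : ∀ Q : Subgroup Γ, IsPGroup p Q → Q ≤ Subgroup.normalizer (R : Set Γ) →
      ∃ n ∈ Subgroup.normalizer (R : Set Γ), cj n Q ≤ (S : Subgroup Γ)) :
    ∃ PN : Sylow p (Subgroup.normalizer (R : Set Γ)),
      (PN : Subgroup (Subgroup.normalizer (R : Set Γ))).map
          (Subgroup.normalizer (R : Set Γ)).subtype =
        (S : Subgroup Γ) ⊓ Subgroup.normalizer (R : Set Γ) := by
  set NR := Subgroup.normalizer (R : Set Γ) with hNR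
  obtain ⟨PN, hPN⟩ := ((S.2.to_le (inf_le_left : (S : Subgroup Γ) ⊓ NR ≤ S)).comap_of_injective
    NR.subtype NR.subtype_injective).exists_le_sylow
  have hle : (S : Subgroup Γ) ⊓ NR ≤ (PN : Subgroup NR).map NR.subtype :=
    fun w hw => ⟨⟨w, hw.2⟩, hPN hw, rfl⟩
  refine ⟨PN, (Subgroup.eq_of_le_of_card_ge hle ?_).symm⟩
  obtain ⟨n, hn, hnP⟩ := hsyl _ (PN.2.map NR.subtype) (Subgroup.map_subtype_le _)
  rw [← card_cj n]
  exact Subgroup.card_le_of_le (le_inf hnP
    (cj_le_of_le_normalizer (Subgroup.le_normalizer hn) (Subgroup.map_subtype_le _)))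

/-- **Reduction to a subgroup with `z` in its core.** -/
theorem good_of_no_data (hp2 : p ≠ 2) (l : (ZMod p)ˣ) (S : Sylow p Γ) (H : Subgroup Γ)
    (hNS : Subgroup.normalizer ((S : Subgroup Γ) : Set Γ) ≤ H) {z : Γ} (hzS : z ∈ (S : Subgroup Γ))
    (hSz : (S : Subgroup Γ) ≤ Subgroup.centralizer ({z} : Set Γ))
    (hzne : Subgroup.centralizer ({z} : Set Γ) ≠ ⊤) (hzp : z ^ p = 1)
    (hover : ∀ Y : Subgroup Γ, (S : Subgroup Γ) ≤ Y → Y ≠ ⊤ →
      ∀ (B : Subgroup Γ) (y : Γ), y ∈ Y → B ≤ S → cj y B ≤ S → Good (MonoidHom.id Γ) H B y)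
    (hquad : z ∈ Cfsg.pCore p Γ → ∃ a ∈ (S : Subgroup Γ),
      ⁅⁅Subgroup.normalClosure ({z} : Set Γ), Subgroup.zpowers a⁆, Subgroup.zpowers a⁆ = ⊥ ∧
        a ∉ Subgroup.centralizer ((Subgroup.normalClosure ({z} : Set Γ) : Subgroup Γ) : Set Γ))
    (hdata : ∀ (Q : Subgroup Γ), Q ≤ (S : Subgroup Γ) → ∀ h ∈ H,
      h ∈ Subgroup.normalizer (Q : Set Γ) → ¬ RawData l z h Q)
    {A₀ : Subgroup Γ} {g₀ : Γ} (hA₀ : A₀ ≤ S) (hgA₀ : cj g₀ A₀ ≤ S) :
    Good (MonoidHom.id Γ) H A₀ g₀ := by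
  classical
  set ι₀ := MonoidHom.id Γ with hι₀
  have hC : ∀ (B : Subgroup Γ) (y : Γ), y ∈ Subgroup.centralizer ({z} : Set Γ) →
      B ≤ S → cj y B ≤ S → Good ι₀ H B y := hover _ hSz hzne
  have hzJ : ∀ T : Subgroup Γ, z ∈ T → T ≤ S → z ∈ thompsonJ 0 T := by
    intro T hzT hTS
    obtain ⟨A, hA⟩ := thompsonJ_nonempty 0 T
    exact le_sSup (α := Subgroup Γ) hA (ZJ.mem_of_commute hA hzT (pow_zero z) fun a ha =>
      Subgroup.mem_centralizer_singleton_iff.mp (hSz (hTS (hA.1 ha))))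
  have hzcore : z ∉ Cfsg.pCore p Γ := fun h => by
    obtain ⟨a, ha, hq, hna⟩ := hquad h
    exact hna (not_quadratic hp2 l S ι₀ Function.injective_id H z hSz hzp h hC hover
      (fun Q hQ k hk hkQ => hdata Q (hQ.trans (Subgroup.map_id _).le) k hk hkQ) ha hq)
  by_contra hbad₀
  obtain ⟨R, x, hRS, hxR, hbad, hbig, hsyl⟩ := exists_max_bad ι₀ H S (fun n hn => hNS hn)
    hA₀ hgA₀ hbad₀
  set NR := Subgroup.normalizer (R : Set Γ) with hNR
  obtain ⟨PN, hPNe⟩ := exists_sylow_normalizer S R hsyl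
  have hRlt : R < (S : Subgroup Γ) ⊓ NR := Transfer.lt_inf_normalizer S.2 hRS
  -- `R` is centric
  have hcen : (S : Subgroup Γ) ⊓ Subgroup.centralizer (R : Set Γ) ≤ R := by
    by_contra hno
    have hCN : Subgroup.centralizer (R : Set Γ) ≤ NR := Subgroup.centralizer_le_normalizer _
    set K := (Subgroup.centralizer (R : Set Γ)).subgroupOf NR with hK
    haveI : K.Normal := (Subgroup.normal_subgroupOf_iff_le_normalizer hCN).mpr
      (Coprime.le_normalizer_centralizer le_rfl)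
    let P : Sylow p K := IsPGroup.toSylow (PN.2.comap_of_injective K.subtype K.subtype_injective)
      fun h => PN.not_dvd_index (h.trans (Transfer.relIndex_dvd_index_of_normal (PN : Subgroup NR) K))
    have hfr := Sylow.normalizer_sup_eq_top P
    obtain ⟨⟨c, hcN⟩, hc, ⟨n, hnN⟩, hn, hcn⟩ := Subgroup.mem_sup_of_normal_left.mp
      (show (⟨x, hxR⟩ : NR) ∈ K ⊔ Subgroup.normalizer (((P : Subgroup K).map K.subtype : Subgroup NR) : Set NR) by
        rw [sup_comm]; exact hfr.ge (Subgroup.mem_top _))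
    have hx' : x = c * n := (congrArg Subtype.val hcn).symm
    set PK := (S : Subgroup Γ) ⊓ Subgroup.centralizer (R : Set Γ) with hPK
    have hPKe : ((P : Subgroup K).map K.subtype).map NR.subtype = PK := by
      rw [show (P : Subgroup K).map K.subtype = (PN : Subgroup NR) ⊓ K from
        Subgroup.subgroupOf_map_subtype (PN : Subgroup NR) K, Subgroup.map_inf _ _ _ NR.subtype_injective,
        hPNe, hK, Subgroup.map_subgroupOf_eq_of_le hCN, inf_assoc, inf_eq_right.mpr hCN]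
    have hnPK : n ∈ Subgroup.normalizer (PK : Set Γ) :=
      hPKe ▸ Subgroup.le_normalizer_map NR.subtype ⟨_, hn, rfl⟩
    have hnRP : cj n (R ⊔ PK) ≤ (S : Subgroup Γ) := by
      rw [cj, Subgroup.map_sup]
      exact sup_le ((cj_eq_of_mem_normalizer hnN).le.trans hRS.le)
        ((cj_eq_of_mem_normalizer hnPK).le.trans inf_le_left)
    have hlt : R < R ⊔ PK := lt_of_le_of_ne le_sup_left fun e => hno (e ▸ le_sup_right)
    refine hbad (((hbig _ n (sup_le hRS.le inf_le_left) hnRP (card_lt_card hlt)).mono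
      le_sup_left).congr fun a ha => ?_)
    have hna : n * a * n⁻¹ ∈ R := (Subgroup.mem_normalizer_iff.mp hnN a).mp ha
    have hcc : c * (n * a * n⁻¹) = (n * a * n⁻¹) * c :=
      (Subgroup.mem_centralizer_iff.mp hc _ hna).symm
    rw [hx', show c * n * a * (c * n)⁻¹ = c * (n * a * n⁻¹) * c⁻¹ by group, hcc,
      mul_inv_cancel_right]
  have hzR : z ∈ R := hcen ⟨hzS, Subgroup.mem_centralizer_iff.mpr fun r hr =>
    Subgroup.mem_centralizer_singleton_iff.mp (hSz (hRS.le hr))⟩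
  have hzconj : ∀ k : Γ, cj k R ≤ (S : Subgroup Γ) → z ∈ cj k R := by
    intro k hk
    have hcR : k⁻¹ * z * k ∈ Subgroup.centralizer (R : Set Γ) :=
      Subgroup.mem_centralizer_iff.mpr fun r hr => by
        have h1 := Subgroup.mem_centralizer_singleton_iff.mp (hSz (hk (conj_mem_cj (g := k) hr)))
        calc r * (k⁻¹ * z * k) = k⁻¹ * ((k * r * k⁻¹) * z) * k := by group
          _ = k⁻¹ * (z * (k * r * k⁻¹)) * k := by rw [h1]
          _ = k⁻¹ * z * k * r := by group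
    have hpw : IsPGroup p (Subgroup.zpowers (k⁻¹ * z * k)) := by
      refine (S.2.map (MulAut.conj k⁻¹).toMonoidHom).to_le (Subgroup.zpowers_le.mpr ?_)
      simpa using conj_mem_cj (g := k⁻¹) hzS
    obtain ⟨n, hn, hnS⟩ := hsyl _ hpw
      (Subgroup.zpowers_le.mpr (Subgroup.centralizer_le_normalizer _ hcR))
    have h2 : n * (k⁻¹ * z * k) * n⁻¹ ∈ Subgroup.centralizer (R : Set Γ) :=
      (Subgroup.mem_normalizer_iff.mp (Coprime.le_normalizer_centralizer le_rfl hn) _).mp hcR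
    have h3 := hcen ⟨hnS (conj_mem_cj (Subgroup.mem_zpowers _)), h2⟩
    rw [mem_cj]
    exact (Subgroup.mem_normalizer_iff.mp hn _).mpr h3
  -- the claim
  suffices hclaim : ∀ (m N : ℕ) (Y : Subgroup Γ) (T : Sylow p Y) (TY : Subgroup Γ),
      (T : Subgroup Y).map Y.subtype = TY → Nat.card (S : Subgroup Γ) - Nat.card TY = m →
      Nat.card Y = N → TY ≤ S → ∀ hzY : z ∈ Y, z ∈ TY → (⟨z, hzY⟩ : Y) ∈ Cfsg.pCore p Y →
      Nat.card R < Nat.card TY → (∃ k, cj k R ≤ TY) →
      ∀ (B : Subgroup Γ) (g : Γ), g ∈ Y → B ≤ TY → cj g B ≤ TY → Good ι₀ H B g by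
    have hz' := mem_pCore_of_le_normalizer (S.2.to_le hRS.le) Subgroup.le_normalizer le_rfl hzR
    refine hbad (hclaim _ _ NR PN _ hPNe rfl rfl inf_le_left (Subgroup.le_normalizer hzR) (hRlt.le hzR)
      hz' (card_lt_card hRlt) ⟨1, (cj_one R).le.trans hRlt.le⟩ R x hxR hRlt.le
      ((cj_eq_of_mem_normalizer hxR).le.trans hRlt.le))
  intro m
  induction m using Nat.strong_induction_on with
  | _ m IHm =>
  intro N
  induction N using Nat.strong_induction_on with
  | _ N IHN =>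
  intro Y T TY hTY hm hN hTS hzY hzT hzc hRT hconj B g hg hB hgB
  have hTYY : TY ≤ Y := hTY ▸ Subgroup.map_subtype_le _
  set z' : Y := ⟨z, hzY⟩ with hz'
  have hmemT : ∀ y : Y, y ∈ (T : Subgroup Y) ↔ (y : Γ) ∈ TY := fun y => by
    rw [← hTY, Subgroup.mem_map]
    exact ⟨fun h => ⟨y, h, rfl⟩, fun ⟨w, hw, e⟩ => Subtype.ext e ▸ hw⟩
  have hmap : ∀ {B' : Subgroup Y}, B' ≤ (T : Subgroup Y) → B'.map Y.subtype ≤ TY := fun h =>
    hTY ▸ Subgroup.map_mono h
  have hgood : ∀ (B' : Subgroup Y) (y : Y), B' ≤ (T : Subgroup Y) → cj y B' ≤ (T : Subgroup Y) →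
      (∀ B'' : Subgroup Γ, B'' ≤ TY → cj (y : Γ) B'' ≤ TY → Good ι₀ H B'' y) →
      Good Y.subtype H B' y := fun B' y hB' hy h =>
    Good.of_map_subtype (h _ (hmap hB') ((cj_map_subtype B' y).le.trans (hmap hy)))
  suffices h : Good Y.subtype H (B.subgroupOf Y) ⟨g, hg⟩ by
    obtain ⟨k, hk, hka⟩ := h
    exact ⟨k, hk, fun a ha => hka ⟨a, hTYY (hB ha)⟩ ha⟩
  refine good_of_core hp2 l T Y.subtype Y.subtype_injective H z' ?_ (Subtype.ext hzp) hzc
    (fun B' y hy hB' hy' => hgood B' y hB' hy' fun B'' h1 h2 => hC B'' y ?_ (h1.trans hTS) (h2.trans hTS))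
    ?_ ?_ ?_ (A := B.subgroupOf Y) (g := ⟨g, hg⟩) (fun b hb => (hmemT b).mpr (hB hb)) ?_
  · intro y hy
    exact Subgroup.mem_centralizer_singleton_iff.mpr
      (Subtype.ext (Subgroup.mem_centralizer_singleton_iff.mp (hSz (hTS ((hmemT y).mp hy)))))
  · exact Subgroup.mem_centralizer_singleton_iff.mpr
      (congrArg Subtype.val (Subgroup.mem_centralizer_singleton_iff.mp hy))
  · -- proper overgroups
    intro Y₀ hTY₀ hY₀ B' y hy hB' hy'
    refine hgood B' y hB' hy' fun B'' h1 h2 => ?_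
    set Y' := Y₀.map Y.subtype with hY'
    have hY'Y : Y' ≤ Y := Subgroup.map_subtype_le _
    have hTY' : TY ≤ Y' := hTY ▸ Subgroup.map_mono hTY₀
    have hcard : Nat.card Y' < N := by
      rw [← hN]
      refine card_lt_card (lt_of_le_of_ne hY'Y fun e => hY₀ ?_)
      apply Subgroup.map_injective Y.subtype_injective
      rw [← MonoidHom.range_eq_map, Subgroup.range_subtype]
      exact e
    obtain ⟨T', hT'⟩ := ((S.2.to_le hTS).comap_of_injective Y'.subtype
      Y'.subtype_injective).exists_le_sylow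
    have hT'e : (T' : Subgroup Y').map Y'.subtype = TY := by
      have hle : TY ≤ (T' : Subgroup Y').map Y'.subtype := fun w hw => ⟨⟨w, hTY' hw⟩, hT' hw, rfl⟩
      refine le_antisymm (fun w hw => ?_) hle
      have h3 := T.3 ((T'.2.map Y'.subtype).comap_of_injective Y.subtype Y.subtype_injective)
        (fun v hv => hle ((hmemT v).mp hv))
      have hwY : w ∈ Y := hY'Y (Subgroup.map_subtype_le _ hw)
      exact (hmemT ⟨w, hwY⟩).mp (h3 ▸ hw)
    set W := (Cfsg.pCore p Y).map Y.subtype with hW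
    have hWN : Y ≤ Subgroup.normalizer (W : Set Γ) := by
      haveI := Fitting.pCore_normal (G := Y) p
      exact fun w hw => Subgroup.le_normalizer_map Y.subtype
        ⟨⟨w, hw⟩, by rw [Subgroup.normalizer_eq_top]; exact Subgroup.mem_top _, rfl⟩
    refine IHN _ hcard Y' T' TY hT'e hm rfl hTS (hTY' hzT) hzT
      (mem_pCore_of_le_normalizer (W := W ⊓ Y') (((Fitting.pCore_isPGroup p).map _).to_le inf_le_left)
        inf_le_right (Coprime.le_normalizer_inf_of_le (hY'Y.trans hWN) Subgroup.le_normalizer)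
        ⟨⟨z', hzc, rfl⟩, hTY' hzT⟩) hRT hconj B'' y ⟨y, hy, rfl⟩ h1 h2
  · intro Q hQ h hh hhQ
    exact hdata Q ((hQ.trans hTY.le).trans hTS) h hh hhQ
  · -- the normalizer of `J`
    intro B' y hy hB' hy'
    refine hgood B' y hB' hy' fun B'' h1 h2 => ?_
    set Y₁ := Subgroup.normalizer ((thompsonJ 0 TY : Subgroup Γ) : Set Γ) with hY₁
    have hyY₁ : (y : Γ) ∈ Y₁ := by
      have h := Subgroup.le_normalizer_map Y.subtype ⟨y, hy, rfl⟩
      rwa [map_thompsonJ 0 Y.subtype Y.subtype_injective.injOn, hTY] at h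
    rcases hTS.eq_or_lt with hEq | hlt
    · refine hover Y₁ ?_ ?_ B'' y hyY₁ (h1.trans hTS) (h2.trans hTS)
      · rw [hY₁, hEq]
        exact Subgroup.le_normalizer.trans (normalizer_le_normalizer_thompsonJ 0 _)
      · intro e
        haveI : (thompsonJ 0 TY).Normal := Subgroup.normalizer_eq_top_iff.mp e
        exact hzcore (Fitting.le_pCore inferInstance
          (S.2.to_le ((thompsonJ_le 0 _).trans hTS)) (hzJ TY hzT hTS))
    set NT := (S : Subgroup Γ) ⊓ Subgroup.normalizer (TY : Set Γ) with hNT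
    have hltN : TY < NT := Transfer.lt_inf_normalizer S.2 hlt
    have hNTY₁ : NT ≤ Y₁ := inf_le_right.trans (normalizer_le_normalizer_thompsonJ 0 _)
    obtain ⟨T₃, hT₃⟩ := ((S.2.to_le (inf_le_left : NT ≤ S)).comap_of_injective Y₁.subtype
      Y₁.subtype_injective).exists_le_sylow
    obtain ⟨k, hk⟩ := Transfer.exists_map_conj_le_sylow (T₃.2.map Y₁.subtype) S
    set T₃' := (T₃ : Subgroup Y₁).map Y₁.subtype with hT₃'
    have hle3 : NT ≤ T₃' := fun w hw => ⟨⟨w, hNTY₁ hw⟩, hT₃ hw, rfl⟩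
    have hkgood : ∀ B₀ : Subgroup Γ, B₀ ≤ TY → Good ι₀ H B₀ k := fun B₀ hB₀ =>
      (hbig NT k inf_le_left ((cj_mono k hle3).trans hk)
        (hRT.trans (card_lt_card hltN))).mono (hB₀.trans hltN.le)
    set Y₂ := cj k Y₁ with hY₂
    let e : Y₁ ≃* Y₂ := Y₁.equivMapOfInjective (MulAut.conj k).toMonoidHom (MulAut.conj k).injective
    let T₂ : Sylow p Y₂ := T₃.mapSurjective (f := e.toMonoidHom) e.surjective
    have hT₂ : (T₂ : Subgroup Y₂).map Y₂.subtype = cj k T₃' := by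
      rw [show (T₂ : Subgroup Y₂) = (T₃ : Subgroup Y₁).map e.toMonoidHom from
        Sylow.coe_mapSurjective _ _, hT₃', cj, Subgroup.map_map, Subgroup.map_map]
      congr 1
    have hkR : ∀ j, cj j R ≤ TY → cj (k * j) R ≤ cj k T₃' := fun j hj => by
      rw [← cj_cj]
      exact cj_mono k (hj.trans (hltN.le.trans hle3))
    obtain ⟨j, hj⟩ := hconj
    have hzkT : z ∈ cj k TY := by
      refine cj_mono k hj ?_
      rw [cj_cj]
      exact hzconj _ ((hkR j hj).trans hk)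
    have hz₂T : z ∈ cj k T₃' := cj_mono k (hltN.le.trans hle3) hzkT
    have hW : z ∈ cj k (thompsonJ 0 TY) := by
      rw [cj, map_thompsonJ 0 _ (MulAut.conj k).injective.injOn]
      exact hzJ _ hzkT ((cj_mono k (hltN.le.trans hle3)).trans hk)
    have hWY₂ : cj k (thompsonJ 0 TY) ≤ Y₂ := cj_mono k Subgroup.le_normalizer
    have hY₂W : Y₂ ≤ Subgroup.normalizer (cj k (thompsonJ 0 TY) : Set Γ) := by
      rintro _ ⟨w, hw, rfl⟩
      exact mem_normalizer_cj hw
    have hcard2 : Nat.card TY < Nat.card (cj k T₃') := by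
      rw [card_cj]
      exact (card_lt_card hltN).trans_le (Subgroup.card_le_of_le hle3)
    have hgood₂ : Good ι₀ H (cj k B'') (k * y * k⁻¹) := by
      have hT3 : cj k B'' ≤ cj k T₃' := cj_mono k (h1.trans (hltN.le.trans hle3))
      refine IHm (Nat.card (S : Subgroup Γ) - Nat.card (cj k T₃')) ?_ _ Y₂ T₂ _ hT₂ rfl rfl hk
        (hWY₂ hW) hz₂T (mem_pCore_of_le_normalizer
          ((S.2.to_le ((thompsonJ_le 0 _).trans hTS)).map _) hWY₂ hY₂W hW)
        (hRT.trans hcard2) ⟨k * j, hkR j hj⟩ _ _ ⟨y, hyY₁, rfl⟩ hT3 ?_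
      · have := Subgroup.card_le_of_le (show cj k T₃' ≤ (S : Subgroup Γ) from hk)
        omega
      · rw [cj_cj, inv_mul_cancel_right, ← cj_cj]
        exact cj_mono k (h2.trans (hltN.le.trans hle3))
    exact Good.of_conj (hkgood _ h1) (hkgood _ h2) hgood₂
  · intro w hw
    obtain ⟨b, hb, rfl⟩ := hw
    exact (hmemT _).mpr (hgB (conj_mem_cj (g := g) hb))

end CfsgLib.ZJFail
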