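import Mathlib
import Cfsg.Agent.Lib.IsolatedMin.Basic
import Cfsg.Agent.Lib.ZJ.Centers
import Cfsg.Agent.Lib.ZJFail.Main

/-!
`Z(J(S))` not controlling fusion: some element of its normalizer carries torus data at an element
of `Z(J(S))`.
-/

set_option autoImplicit false
set_option linter.style.haveILetI false
set_option linter.unusedSectionVars false

namespace CfsgLib.ZJFail

open CfsgLib.Conjugacy CfsgLib.Transfer
open scoped commutatorElement

variable {G : Type*} [Group G] [Finite G] {p : ℕ} [hp : Fact p.Prime]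

/-- `p'`-elements fixing a normal subgroup and the quotient of a `p`-group are trivial on it. -/
theorem conj_eq_of_stab {R N : Subgroup G} (hR : IsPGroup p R) (hNR : N ≤ R) {m : G}
    (hm : (orderOf m).Coprime p) (hfix : ∀ c ∈ N, m * c * m⁻¹ = c)
    (hq : ∀ r ∈ R, r⁻¹ * (m * r * m⁻¹) ∈ N) {r : G} (hr : r ∈ R) : m * r * m⁻¹ = r := by
  set c := r⁻¹ * (m * r * m⁻¹) with hc
  have e : m * r * m⁻¹ = r * c := by rw [hc]; group
  have hit : ∀ j : ℕ, m ^ j * r * (m ^ j)⁻¹ = r * c ^ j := by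
    intro j
    induction j with
    | zero => simp
    | succ j ih =>
      have h2 : m * c ^ j * m⁻¹ = c ^ j := by rw [← conj_pow, hfix c (hq r hr)]
      calc m ^ (j + 1) * r * (m ^ (j + 1))⁻¹ = m * (m ^ j * r * (m ^ j)⁻¹) * m⁻¹ := by
            rw [pow_succ']; group
        _ = (m * r * m⁻¹) * (m * c ^ j * m⁻¹) := by rw [ih]; group
        _ = r * c ^ (j + 1) := by rw [e, h2, pow_succ', mul_assoc]
  have h1 := hit (orderOf m)
  rw [pow_orderOf_eq_one, one_mul, inv_one, mul_one] at h1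
  have h3 : c ^ orderOf m = 1 := mul_eq_left.mp h1.symm
  obtain ⟨k, hk⟩ := hR ⟨c, hNR (hq r hr)⟩
  have hc1 : c = 1 := orderOf_eq_one_iff.mp (Nat.eq_one_of_dvd_coprimes (hm.pow_right k)
    (orderOf_dvd_of_pow_eq_one h3) (orderOf_dvd_of_pow_eq_one (congrArg Subtype.val hk)))
  rw [e, hc1, mul_one]

/-- When the central element lies in the `p`-core of the quotient, some element of the Sylow
subgroup acts quadratically and non-trivially. -/
theorem exists_quadratic_quotient (hp2 : p ≠ 2) (S : Sylow p G) {u : G}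
    (hu : u ∈ ZJ.zJ 0 (S : Subgroup G)) (N₁ : Subgroup G) [N₁.Normal]
    (hN₁U : N₁ ≤ ZJ.zJ 0 (S : Subgroup G))
    (hN₁max : ∀ W : Subgroup G, W.Normal → W ≤ ZJ.zJ 0 (S : Subgroup G) → W ≤ N₁)
    (hub1 : QuotientGroup.mk' N₁ u ≠ 1) (hubp : QuotientGroup.mk' N₁ u ^ p = 1)
    (hSbz : (S : Subgroup G).map (QuotientGroup.mk' N₁) ≤
      Subgroup.centralizer ({QuotientGroup.mk' N₁ u} : Set (G ⧸ N₁)))
    (huc : QuotientGroup.mk' N₁ u ∈ Cfsg.pCore p (G ⧸ N₁)) :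
    ∃ a ∈ (S : Subgroup G).map (QuotientGroup.mk' N₁),
      ⁅⁅Subgroup.normalClosure ({QuotientGroup.mk' N₁ u} : Set (G ⧸ N₁)), Subgroup.zpowers a⁆,
        Subgroup.zpowers a⁆ = ⊥ ∧
        a ∉ Subgroup.centralizer ((Subgroup.normalClosure
          ({QuotientGroup.mk' N₁ u} : Set (G ⧸ N₁)) : Subgroup (G ⧸ N₁)) : Set (G ⧸ N₁)) := by
  classical
  set U := ZJ.zJ 0 (S : Subgroup G) with hU
  have hUS : U ≤ (S : Subgroup G) := ZJ.zJ_le 0 _
  have hN₁S : N₁ ≤ (S : Subgroup G) := hN₁U.trans hUS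
  have hJH : Subgroup.normalizer ((thompsonJ 0 (S : Subgroup G) : Subgroup G) : Set G) ≤
      Subgroup.normalizer (U : Set G) := ZJ.normalizer_thompsonJ_le_zJ 0 _
  have hUJ : ∀ w ∈ U, ∀ a ∈ thompsonJ 0 (S : Subgroup G), a * w = w * a := fun w hw a ha =>
    Subgroup.mem_centralizer_iff.mp hw.2 a ha
  set π := QuotientGroup.mk' N₁ with hπ
  have hπs : Function.Surjective π := QuotientGroup.mk'_surjective N₁
  have hker : π.ker = N₁ := QuotientGroup.ker_mk' N₁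
  set Sb := S.mapSurjective hπs with hSb
  have hSbe : (Sb : Subgroup (G ⧸ N₁)) = (S : Subgroup G).map π := Sylow.coe_mapSurjective _ _
  rw [← hSbe] at hSbz ⊢
  have hSpre : ∀ w, π w ∈ (Sb : Subgroup (G ⧸ N₁)) → w ∈ (S : Subgroup G) := by
    intro w hw
    have h1 : w ∈ ((S : Subgroup G).map π).comap π := hSbe ▸ hw
    rwa [Subgroup.comap_map_eq_self (hker.le.trans hN₁S)] at h1
  set V := Subgroup.normalClosure ({π u} : Set (G ⧸ N₁)) with hV
  have hel := isElementaryAbelian_normalClosure Sb hSbz hubp huc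
  have hVS : V ≤ (Sb : Subgroup (G ⧸ N₁)) := ZJ.normal_le_sylow
    (fun v => ⟨1, Subtype.ext (by rw [pow_one]; exact hel.2 _ v.2)⟩) Sb
  set B := V.comap π with hB
  have hBS : B ≤ (S : Subgroup G) := fun b hb => hSpre b (hVS hb)
  have hN₁B : N₁ ≤ B := fun n hn => by
    show π n ∈ V
    rw [MonoidHom.mem_ker.mp (hker.symm ▸ hn : n ∈ π.ker)]
    exact one_mem _
  have hcomm : ∀ x ∈ B, ∀ y ∈ B, ⁅x, y⁆ ∈ N₁ := fun x hx y hy => by
    rw [← hker, MonoidHom.mem_ker, map_commutatorElement, commutatorElement_eq_one_iff_mul_comm]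
    exact congrArg Subtype.val (hel.1.is_comm.comm (⟨π x, hx⟩ : V) ⟨π y, hy⟩)
  have hBC : B ≤ Subgroup.centralizer (N₁ : Set G) := by
    have hN₁C : N₁ ≤ Subgroup.centralizer (N₁ : Set G) := fun n hn =>
      Subgroup.mem_centralizer_iff.mpr fun m hm =>
        hUJ n (hN₁U hn) m (hN₁U hm).1
    haveI : ((Subgroup.centralizer (N₁ : Set G)).map π).Normal :=
      Subgroup.Normal.map inferInstance π hπs
    have hVle : V ≤ (Subgroup.centralizer (N₁ : Set G)).map π :=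
      Subgroup.normalClosure_le_normal (Set.singleton_subset_iff.mpr
        ⟨u, Subgroup.mem_centralizer_iff.mpr fun m hm => hUJ u hu m (hN₁U hm).1, rfl⟩)
    refine (Subgroup.comap_mono hVle).trans ?_
    rw [Subgroup.comap_map_eq_self (hker.le.trans hN₁C)]
  set K := (Subgroup.centralizer (V : Set (G ⧸ N₁))).comap π with hK
  haveI : K.Normal := inferInstance
  -- conjugates of `u` modulo `K`
  set T₁ := (S : Subgroup G) ⊓ K with hT₁
  have hfr : ∀ g : G, ∃ n ∈ Subgroup.normalizer (T₁ : Set G), π (g * u * g⁻¹) = π (n * u * n⁻¹) := by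
    intro g
    let P : Sylow p K := IsPGroup.toSylow (S.2.comap_of_injective K.subtype K.subtype_injective)
      fun h => S.not_dvd_index (h.trans (Transfer.relIndex_dvd_index_of_normal (S : Subgroup G) K))
    have hf := Sylow.normalizer_sup_eq_top P
    rw [show (P : Subgroup K).map K.subtype = T₁ from
      Subgroup.subgroupOf_map_subtype (S : Subgroup G) K] at hf
    obtain ⟨k, hk, n, hn, rfl⟩ := Subgroup.mem_sup_of_normal_left.mp
      (show g ∈ K ⊔ Subgroup.normalizer (T₁ : Set G) by rw [sup_comm]; exact hf.ge (Subgroup.mem_top g))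
    refine ⟨n, hn, ?_⟩
    have hv : π (n * u * n⁻¹) ∈ V := by
      rw [map_mul, map_mul, map_inv]
      exact (Subgroup.normalClosure_normal (s := ({π u} : Set (G ⧸ N₁)))).conj_mem (π u)
        (Subgroup.subset_normalClosure (Set.mem_singleton (π u))) (π n)
    have hc := Subgroup.mem_centralizer_iff.mp (Subgroup.mem_comap.mp hk) _ hv
    rw [show k * n * u * (k * n)⁻¹ = k * (n * u * n⁻¹) * k⁻¹ by group, map_mul π (k * _), map_mul,
      map_inv, ← hc, mul_inv_cancel_right]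
  -- if all conjugates lie, modulo `N₁`, in `X`, so does `B`
  have hBX : ∀ X : Subgroup G, N₁ ≤ X → (∀ g, ∃ w ∈ X, π (g * u * g⁻¹) = π w) → B ≤ X := by
    intro X hX h
    have hVX : V ≤ X.map π := (Subgroup.closure_le _).mpr fun w hw => by
      obtain ⟨z', rfl, hc⟩ := Group.mem_conjugatesOfSet_iff.mp hw
      obtain ⟨gb, rfl⟩ := isConj_iff.mp hc
      obtain ⟨g, rfl⟩ := hπs gb
      obtain ⟨x, hx, hgx⟩ := h g
      exact ⟨x, hx, by rw [← hgx]; simp⟩
    refine (Subgroup.comap_mono hVX).trans ?_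
    rw [Subgroup.comap_map_eq_self (hker.le.trans hX)]
  by_contra hno
  push Not at hno
  by_cases hall : ∀ A ∈ maxAbExp 0 (S : Subgroup G), A ≤ K
  · have hJT : thompsonJ 0 T₁ = thompsonJ 0 (S : Subgroup G) :=
      thompsonJ_eq_of_le (sSup_le fun A hA => le_inf hA.1 (hall A hA)) inf_le_left
    have hBU : B ≤ U := hBX U hN₁U fun g => by
      obtain ⟨n, hn, hnn'⟩ := hfr g
      refine ⟨n * u * n⁻¹, (Subgroup.mem_normalizer_iff.mp (hJH ?_) u).mp hu, hnn'⟩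
      rw [← hJT]
      exact normalizer_le_normalizer_thompsonJ 0 _ hn
    haveI : B.Normal := inferInstance
    have h2 : u ∈ N₁ := hN₁max B inferInstance hBU
      (Subgroup.mem_comap.mpr (Subgroup.subset_normalClosure (Set.mem_singleton (π u))))
    exact hub1 (MonoidHom.mem_ker.mp (hker.symm ▸ h2))
  push Not at hall
  obtain ⟨A', hA', hA'K⟩ := hall
  haveI := Fintype.ofFinite (Subgroup G)
  obtain ⟨A₁, hA₁, hmax⟩ := Finset.exists_max_image
    (Finset.univ.filter fun A : Subgroup G => A ∈ maxAbExp 0 (S : Subgroup G) ∧ ¬ A ≤ K)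
    (fun A => Nat.card (A ⊓ B : Subgroup G))
    ⟨A', Finset.mem_filter.mpr ⟨Finset.mem_univ _, hA', hA'K⟩⟩
  simp only [Finset.mem_filter, Finset.mem_univ, true_and] at hA₁ hmax
  obtain ⟨hA₁, hA₁K⟩ := hA₁
  by_cases hn : B ≤ Subgroup.normalizer (A₁ : Set G)
  · obtain ⟨a, ha, haK⟩ := SetLike.not_le_iff_exists.mp hA₁K
    have hAc : ∀ x ∈ A₁, ∀ y ∈ A₁, x * y = y * x := fun x hx y hy =>
      congrArg Subtype.val (hA₁.2.1.1.is_comm.comm (⟨x, hx⟩ : A₁) ⟨y, hy⟩)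
    refine haK (Subgroup.mem_comap.mpr (hno (π a) (hSbe ▸ ⟨a, hA₁.1 ha, rfl⟩) ?_))
    have h0 := congrArg (Subgroup.map π) (ZJ.quadratic_of_normalizes hAc hn ha)
    rwa [Subgroup.map_commutator, Subgroup.map_commutator, MonoidHom.map_zpowers, Subgroup.map_bot,
      Subgroup.map_comap_eq_self_of_surjective hπs] at h0
  obtain ⟨A₂, hA₂, hlt, hA₂N⟩ := ZJ.glauberman_replacement hp2 (Or.inl rfl) S.2 hA₁ hBS
    Subgroup.le_normalizer_of_normal
    (fun x hx y hy a ha => hUJ _ (hN₁U (hcomm x hx y hy)) a (le_sSup (α := Subgroup G) hA₁ ha))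
    (fun x hx y hy w hw => (Subgroup.mem_centralizer_iff.mp (hBC hw) _ (hcomm x hx y hy)).symm)
    hn
  by_cases hA₂K : A₂ ≤ K
  · have hN₁A : N₁ ≤ A₂ := fun n hn' => ZJ.mem_of_commute hA₂ (hN₁S hn') (pow_zero n)
      fun a ha => hUJ n (hN₁U hn') a (le_sSup (α := Subgroup G) hA₂ ha)
    refine hn ((hBX A₂ hN₁A fun g => ?_).trans hA₂N)
    obtain ⟨n, hn', hnn'⟩ := hfr g
    refine ⟨n * u * n⁻¹, ZJ.mem_of_commute hA₂ (hBS ?_) (pow_zero _) fun a ha => ?_, hnn'⟩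
    · show π (n * u * n⁻¹) ∈ V
      rw [map_mul, map_mul, map_inv]
      exact (Subgroup.normalClosure_normal (s := ({π u} : Set (G ⧸ N₁)))).conj_mem (π u)
        (Subgroup.subset_normalClosure (Set.mem_singleton (π u))) (π n)
    · have hA₂T : A₂ ∈ maxAbExp 0 T₁ := ⟨le_inf hA₂.1 hA₂K, hA₂.2.1,
        fun C hC hCe => hA₂.2.2 C (hC.trans inf_le_left) hCe⟩
      have hJle : thompsonJ 0 T₁ ≤ thompsonJ 0 (S : Subgroup G) := sSup_le fun A hA =>
        le_sSup (α := Subgroup G) ⟨hA.1.trans inf_le_left, hA.2.1, fun C hC hCe =>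
          (hA₂.2.2 C hC hCe).trans (hA.2.2 A₂ hA₂T.1 hA₂.2.1)⟩
      have hnJ := normalizer_le_normalizer_thompsonJ 0 T₁ hn'
      have ha' : n⁻¹ * a * n ∈ thompsonJ 0 T₁ :=
        (Subgroup.mem_normalizer_iff''.mp hnJ a).mp (le_sSup (α := Subgroup G) hA₂T ha)
      have h1 := hUJ u hu _ (hJle ha')
      calc a * (n * u * n⁻¹) = n * ((n⁻¹ * a * n) * u) * n⁻¹ := by group
        _ = n * (u * (n⁻¹ * a * n)) * n⁻¹ := by rw [h1]
        _ = n * u * n⁻¹ * a := by group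
  · have h1 := hmax A₂ ⟨hA₂, hA₂K⟩
    exact absurd h1 (not_le.mpr (card_lt_card hlt))

/-- If all maps are realised in the quotient, they are realised above. -/
theorem good_of_quotient (S : Sylow p G) (N₁ : Subgroup G) [N₁.Normal]
    (hN₁U : N₁ ≤ ZJ.zJ 0 (S : Subgroup G))
    (hover : ∀ Y : Subgroup G, (S : Subgroup G) ≤ Y → Y ≠ ⊤ →
      ∀ (B : Subgroup G) (y : G), y ∈ Y → B ≤ S → cj y B ≤ S →
        Good (MonoidHom.id G) (Subgroup.normalizer (ZJ.zJ 0 (S : Subgroup G) : Set G)) B y)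
    (hgoodb : ∀ (B : Subgroup (G ⧸ N₁)) (y : G ⧸ N₁),
      B ≤ (S : Subgroup G).map (QuotientGroup.mk' N₁) →
      cj y B ≤ (S : Subgroup G).map (QuotientGroup.mk' N₁) →
      Good (MonoidHom.id _)
        ((Subgroup.normalizer (ZJ.zJ 0 (S : Subgroup G) : Set G)).map (QuotientGroup.mk' N₁)) B y)
    {A₀ : Subgroup G} {g₀ : G} (hA₀ : A₀ ≤ S) (hgA₀ : cj g₀ A₀ ≤ S) :
    Good (MonoidHom.id G) (Subgroup.normalizer (ZJ.zJ 0 (S : Subgroup G) : Set G)) A₀ g₀ := by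
  classical
  by_contra hbad₀
  set U := ZJ.zJ 0 (S : Subgroup G) with hU
  set H := Subgroup.normalizer (U : Set G) with hH
  have hNSH : Subgroup.normalizer ((S : Subgroup G) : Set G) ≤ H :=
    ZJ.normalizer_le_normalizer_zJ 0 _
  have hJH : Subgroup.normalizer ((thompsonJ 0 (S : Subgroup G) : Subgroup G) : Set G) ≤ H :=
    ZJ.normalizer_thompsonJ_le_zJ 0 _
  have hUJ : ∀ w ∈ U, ∀ a ∈ thompsonJ 0 (S : Subgroup G), a * w = w * a := fun w hw a ha =>
    Subgroup.mem_centralizer_iff.mp hw.2 a ha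
  have hN₁S : N₁ ≤ (S : Subgroup G) := hN₁U.trans (ZJ.zJ_le 0 _)
  set π := QuotientGroup.mk' N₁ with hπ
  have hker : π.ker = N₁ := QuotientGroup.ker_mk' N₁
  obtain ⟨R, x, hRS, hxR, hbad, hbig, hsyl⟩ := exists_max_bad (MonoidHom.id G) H S
    (fun n hn => hNSH hn) hA₀ hgA₀ hbad₀
  set NR := Subgroup.normalizer (R : Set G) with hNR
  have hN₁R : N₁ ≤ R := by
    by_contra hn
    refine hbad ((hbig (R ⊔ N₁) x (sup_le hRS.le hN₁S) ?_
      (card_lt_card (lt_of_le_of_ne le_sup_left fun e => hn (e ▸ le_sup_right)))).mono le_sup_left)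
    rw [cj, Subgroup.map_sup]
    exact sup_le ((cj_eq_of_mem_normalizer hxR).le.trans hRS.le)
      ((cj_eq_of_mem_normalizer (by rw [Subgroup.normalizer_eq_top N₁]; exact Subgroup.mem_top x)).le.trans hN₁S)
  set C₁ := Subgroup.centralizer (N₁ : Set G) with hC₁
  have hJC : thompsonJ 0 (S : Subgroup G) ≤ (S : Subgroup G) ⊓ C₁ := le_inf (thompsonJ_le 0 _)
    fun a ha => Subgroup.mem_centralizer_iff.mpr fun m hm => (hUJ m (hN₁U hm) a ha).symm
  by_cases htop : C₁ ⊔ (S : Subgroup G) = ⊤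
  swap
  · refine hbad (good_of_frattini (MonoidHom.id G) H S C₁ (hover _ le_sup_right htop)
      (fun B y hy _ _ => Good.of_mem B (hJH ?_)) hRS.le ((cj_eq_of_mem_normalizer hxR).le.trans hRS.le))
    rw [← thompsonJ_eq_of_le hJC inf_le_left]
    exact normalizer_le_normalizer_thompsonJ 0 _ hy
  obtain ⟨_, ⟨h, hh, rfl⟩, hha⟩ := hgoodb (R.map π) (π x) (Subgroup.map_mono hRS.le) (by
    rintro _ ⟨_, ⟨r, hr, rfl⟩, rfl⟩
    exact ⟨x * r * x⁻¹, hRS.le ((Subgroup.mem_normalizer_iff.mp hxR r).mp hr), by simp⟩)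
  have hcong : ∀ r ∈ R, (x * r * x⁻¹)⁻¹ * (h * r * h⁻¹) ∈ N₁ := fun r hr => by
    have h1 := hha (π r) ⟨r, hr, rfl⟩
    simp only [MonoidHom.id_apply] at h1
    rw [← hker, MonoidHom.mem_ker]
    simp only [map_mul, map_inv] at h1 ⊢
    rw [h1]
    group
  have hhR : h ∈ NR := by
    rw [hNR, Subgroup.mem_normalizer_iff_map_conj_eq]
    refine Subgroup.eq_of_le_of_card_ge ?_ (card_cj h R).ge
    rintro _ ⟨r, hr, rfl⟩
    have := R.mul_mem ((Subgroup.mem_normalizer_iff.mp hxR r).mp hr) (hN₁R (hcong r hr))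
    rwa [mul_inv_cancel_left] at this
  -- the elements of `N(R)` trivial on `R / N₁`
  let M : Subgroup G :=
    { carrier := {m | m ∈ NR ∧ ∀ r ∈ R, π (m * r * m⁻¹) = π r}
      one_mem' := ⟨one_mem _, fun r _ => by simp⟩
      mul_mem' := fun {a b} ha hb => ⟨NR.mul_mem ha.1 hb.1, fun r hr => by
        rw [show a * b * r * (a * b)⁻¹ = a * (b * r * b⁻¹) * a⁻¹ by group,
          ha.2 _ ((Subgroup.mem_normalizer_iff.mp hb.1 r).mp hr), hb.2 r hr]⟩
      inv_mem' := fun {a} ha => ⟨NR.inv_mem ha.1, fun r hr => by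
        have h1 := ha.2 _ ((Subgroup.mem_normalizer_iff.mp (NR.inv_mem ha.1) r).mp hr)
        rw [show a * (a⁻¹ * r * a⁻¹⁻¹) * a⁻¹ = r by group] at h1
        exact h1.symm⟩ }
  set k := h⁻¹ * x with hk
  have hkM : k ∈ M := ⟨NR.mul_mem (NR.inv_mem hhR) hxR, fun r hr => by
    have h1 := hha (π r) ⟨r, hr, rfl⟩
    simp only [MonoidHom.id_apply] at h1
    rw [hk, show h⁻¹ * x * r * (h⁻¹ * x)⁻¹ = h⁻¹ * (x * r * x⁻¹) * h by group]
    simp only [map_mul, map_inv] at h1 ⊢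
    rw [h1]
    group⟩
  -- modulo `C(R)` it is a `p`-group
  set M' := M.subgroupOf NR with hM'
  haveI : M'.Normal := ⟨fun m hm n => ⟨(n * m * n⁻¹).2, fun r hr => by
    have hr' : (n : G)⁻¹ * r * n ∈ R := (Subgroup.mem_normalizer_iff''.mp n.2 r).mp hr
    show π ((n : G) * m * (n : G)⁻¹ * r * ((n : G) * m * (n : G)⁻¹)⁻¹) = π r
    rw [show (n : G) * m * (n : G)⁻¹ * r * ((n : G) * m * (n : G)⁻¹)⁻¹ =
      (n : G) * ((m : G) * ((n : G)⁻¹ * r * n) * (m : G)⁻¹) * (n : G)⁻¹ by group,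
      map_mul π _ ((n : G)⁻¹), map_mul π (n : G), show π ((m : G) * ((n : G)⁻¹ * r * n) * (m : G)⁻¹) = π ((n : G)⁻¹ * r * n) from hm.2 _ hr']
    simp [mul_assoc]⟩⟩
  obtain ⟨PN, hPNe⟩ := exists_sylow_normalizer S R hsyl
  let P : Sylow p M' := IsPGroup.toSylow (PN.2.comap_of_injective M'.subtype M'.subtype_injective)
    fun h => PN.not_dvd_index (h.trans (Transfer.relIndex_dvd_index_of_normal (PN : Subgroup NR) M'))
  set C' := ((Subgroup.centralizer (R : Set G)).subgroupOf NR).subgroupOf M' with hC'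
  haveI : ((Subgroup.centralizer (R : Set G)).subgroupOf NR).Normal :=
    (Subgroup.normal_subgroupOf_iff_le_normalizer (Subgroup.centralizer_le_normalizer _)).mpr
      (Coprime.le_normalizer_centralizer le_rfl)
  haveI : C'.Normal := inferInstance
  have hQ : IsPGroup p (M' ⧸ C') := fun q => by
    obtain ⟨m, rfl⟩ := QuotientGroup.mk'_surjective C' q
    obtain ⟨i, -, -, -, hco, -⟩ := Transfer.exists_pow_coprime_part (p := p) ((m : NR) : G)
    refine ⟨i, ?_⟩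
    rw [← map_pow]
    refine (QuotientGroup.eq_one_iff _).mpr ?_
    set m₀ := ((m : NR) : G) ^ p ^ i with hm₀
    have hmM : m₀ ∈ M := pow_mem m.2 _
    have hfix : ∀ c ∈ N₁, m₀ * c * m₀⁻¹ = c := by
      have hQ₁ : IsPGroup p (G ⧸ C₁) := by
        refine (S.2.map (QuotientGroup.mk' C₁)).of_surjective
          ((S : Subgroup G).map (QuotientGroup.mk' C₁)).subtype fun w => ?_
        obtain ⟨g, rfl⟩ := QuotientGroup.mk'_surjective C₁ w
        obtain ⟨c, hc, s, hs, rfl⟩ := Subgroup.mem_sup_of_normal_left.mp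
          (htop.ge (Subgroup.mem_top g))
        refine ⟨⟨QuotientGroup.mk' C₁ s, s, hs, rfl⟩, ?_⟩
        rw [map_mul, show QuotientGroup.mk' C₁ c = 1 from (QuotientGroup.eq_one_iff c).mpr hc, one_mul]
        rfl
      have h1 : m₀ ∈ C₁ := by
        obtain ⟨j, hj⟩ := hQ₁ (QuotientGroup.mk' C₁ m₀)
        rw [← QuotientGroup.eq_one_iff]
        exact orderOf_eq_one_iff.mp (Nat.eq_one_of_dvd_coprimes (hco.pow_right j)
          (orderOf_map_dvd (QuotientGroup.mk' C₁) m₀) (orderOf_dvd_of_pow_eq_one hj))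
      intro c hc
      rw [mul_inv_eq_iff_eq_mul]
      exact (Subgroup.mem_centralizer_iff.mp h1 c hc).symm
    show m₀ ∈ Subgroup.centralizer (R : Set G)
    refine Subgroup.mem_centralizer_iff.mpr fun r hr => ?_
    have h2 := conj_eq_of_stab (S.2.to_le hRS.le) hN₁R hco hfix (fun r hr => by
      rw [← hker, MonoidHom.mem_ker, map_mul, map_inv, hmM.2 r hr, inv_mul_cancel]) hr
    exact (mul_inv_eq_iff_eq_mul.mp h2).symm
  have hPtop : (P : Subgroup M').map (QuotientGroup.mk' C') = ⊤ :=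
    ((P.mapSurjective (QuotientGroup.mk'_surjective C')).3 (hQ.to_subgroup ⊤) le_top).symm
  obtain ⟨s, hs, hse⟩ := hPtop.ge (Subgroup.mem_top
    (QuotientGroup.mk' C' (⟨⟨k, hkM.1⟩, hkM⟩ : M')))
  set km : M' := ⟨⟨k, hkM.1⟩, hkM⟩ with hkm
  have hc : (((km * s⁻¹ : M') : NR) : G) ∈ Subgroup.centralizer (R : Set G) := by
    have h1 : km * s⁻¹ ∈ C' := by
      rw [← QuotientGroup.eq_one_iff]
      show QuotientGroup.mk' C' (km * s⁻¹) = 1
      rw [map_mul, map_inv, hse, mul_inv_cancel]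
    exact h1
  have hsS : ((s : NR) : G) ∈ (S : Subgroup G) :=
    (hPNe.le (Subgroup.mem_map_of_mem NR.subtype (show (s : NR) ∈ (PN : Subgroup NR) from hs))).1
  refine hbad ⟨h * ((s : NR) : G), H.mul_mem hh (hNSH (Subgroup.le_normalizer hsS)), fun r hr => ?_⟩
  show x * r * x⁻¹ = h * ((s : NR) : G) * r * (h * ((s : NR) : G))⁻¹
  have hr' : ((s : NR) : G) * r * ((s : NR) : G)⁻¹ ∈ R :=
    (Subgroup.mem_normalizer_iff.mp (s : NR).2 r).mp hr
  have h1 := (Subgroup.mem_centralizer_iff.mp hc _ hr').symm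
  simp only [Subgroup.coe_mul, Subgroup.coe_inv] at h1
  have hx : x = h * (k * ((s : NR) : G)⁻¹) * ((s : NR) : G) := by rw [hk]; group
  set c := k * ((s : NR) : G)⁻¹ with hcdef
  set s₀ := ((s : NR) : G)
  calc x * r * x⁻¹ = h * (c * (s₀ * r * s₀⁻¹) * c⁻¹) * h⁻¹ := by rw [hx]; group
    _ = h * (s₀ * r * s₀⁻¹) * h⁻¹ := by rw [h1, mul_inv_cancel_right]
    _ = _ := by group

/-- The data, when all maps inside proper overgroups of `S` are realised. -/
theorem exists_data_of_minimal (hp2 : p ≠ 2) (l : (ZMod p)ˣ) (S : Sylow p G)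
    (hover : ∀ Y : Subgroup G, (S : Subgroup G) ≤ Y → Y ≠ ⊤ →
      ∀ (B : Subgroup G) (y : G), y ∈ Y → B ≤ S → cj y B ≤ S →
        Good (MonoidHom.id G) (Subgroup.normalizer (ZJ.zJ 0 (S : Subgroup G) : Set G)) B y)
    {A₀ : Subgroup G} {g₀ : G} (hA₀ : A₀ ≤ S) (hgA₀ : cj g₀ A₀ ≤ S)
    (hbad₀ : ¬ Good (MonoidHom.id G) (Subgroup.normalizer (ZJ.zJ 0 (S : Subgroup G) : Set G)) A₀ g₀) :
    ∃ h ∈ Subgroup.normalizer (ZJ.zJ 0 (S : Subgroup G) : Set G), ∃ Q : Subgroup G,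
      Q ≤ S ∧ h ∈ Subgroup.normalizer (Q : Set G) ∧
      ∃ u ∈ ZJ.zJ 0 (S : Subgroup G), RawData l u h Q := by
  classical
  set U := ZJ.zJ 0 (S : Subgroup G) with hU
  set H := Subgroup.normalizer (U : Set G) with hH
  have hNSH : Subgroup.normalizer ((S : Subgroup G) : Set G) ≤ H :=
    ZJ.normalizer_le_normalizer_zJ 0 _
  have hUS : U ≤ (S : Subgroup G) := ZJ.zJ_le 0 _
  have hJH : Subgroup.normalizer ((thompsonJ 0 (S : Subgroup G) : Subgroup G) : Set G) ≤ H :=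
    ZJ.normalizer_thompsonJ_le_zJ 0 _
  have hUJ : ∀ w ∈ U, ∀ a ∈ thompsonJ 0 (S : Subgroup G), a * w = w * a := fun w hw a ha =>
    Subgroup.mem_centralizer_iff.mp hw.2 a ha
  have hnn : ¬ U.Normal := fun h => hbad₀ (Good.of_mem _ (by
    show g₀ ∈ H
    rw [hH, Subgroup.normalizer_eq_top U]; exact Subgroup.mem_top _))
  set N₁ := U.normalCore with hN₁
  have hN₁U : N₁ ≤ U := U.normalCore_le
  have hN₁S : N₁ ≤ (S : Subgroup G) := hN₁U.trans hUS
  set π := QuotientGroup.mk' N₁ with hπ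
  have hπs : Function.Surjective π := QuotientGroup.mk'_surjective N₁
  have hker : π.ker = N₁ := QuotientGroup.ker_mk' N₁
  set Sb := S.mapSurjective hπs with hSb
  have hSbe : (Sb : Subgroup (G ⧸ N₁)) = (S : Subgroup G).map π := Sylow.coe_mapSurjective _ _
  have hSpre : ∀ w, π w ∈ (Sb : Subgroup (G ⧸ N₁)) → w ∈ (S : Subgroup G) := by
    intro w hw
    have h1 : w ∈ ((S : Subgroup G).map π).comap π := hSbe ▸ hw
    rwa [Subgroup.comap_map_eq_self (hker.le.trans hN₁S)] at h1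
  -- a central element of order `p`
  set Ub := U.map π with hUb
  have hUbS : Ub ≤ (Sb : Subgroup (G ⧸ N₁)) := hSbe ▸ Subgroup.map_mono hUS
  haveI : (Ub.subgroupOf (Sb : Subgroup (G ⧸ N₁))).Normal :=
    (Subgroup.normal_subgroupOf_iff_le_normalizer hUbS).mpr (by
      rw [hSbe]
      exact (Subgroup.map_mono (Subgroup.le_normalizer.trans hNSH)).trans
        (Subgroup.le_normalizer_map π))
  have hUb0 : Ub.subgroupOf (Sb : Subgroup (G ⧸ N₁)) ≠ ⊥ := fun h => by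
    have h1 : Ub = ⊥ := (Subgroup.subgroupOf_eq_bot.mp h).eq_bot_of_le hUbS
    have h2 : U ≤ N₁ := hker ▸ (Subgroup.map_eq_bot_iff U).mp h1
    exact hnn ((le_antisymm h2 hN₁U) ▸ Subgroup.normalCore_normal U)
  obtain ⟨ub, hub, hub1⟩ : ∃ ub ∈ Ub, ub ∈ Subgroup.centralizer ((Sb : Subgroup (G ⧸ N₁)) : Set (G ⧸ N₁)) ∧
      ub ≠ 1 ∧ ub ^ p = 1 := by
    obtain ⟨⟨⟨w, hwS⟩, hw⟩, hw1⟩ := exists_prime_orderOf_dvd_card'
      (G := ↥(Ub.subgroupOf (Sb : Subgroup (G ⧸ N₁)) ⊓ Subgroup.center (Sb : Subgroup (G ⧸ N₁)))) p (by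
        have hne := IsolatedMin.inf_center_ne_bot Sb.2 (Ub.subgroupOf (Sb : Subgroup (G ⧸ N₁))) hUb0
        obtain ⟨k, hk⟩ := (Sb.2.to_subgroup (Ub.subgroupOf (Sb : Subgroup (G ⧸ N₁)) ⊓
          Subgroup.center (Sb : Subgroup (G ⧸ N₁)))).exists_card_eq
        rw [hk]
        refine dvd_pow_self p fun h0 => hne ?_
        rw [h0, pow_zero] at hk
        exact Subgroup.eq_bot_of_card_eq _ hk)
    rw [← Subgroup.orderOf_coe, ← Subgroup.orderOf_coe] at hw1
    refine ⟨w, hw.1, Subgroup.mem_centralizer_iff.mpr fun s hs =>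
      congrArg Subtype.val (Subgroup.mem_center_iff.mp hw.2 ⟨s, hs⟩), fun h1 => ?_,
      hw1 ▸ pow_orderOf_eq_one w⟩
    have : orderOf w = 1 := orderOf_eq_one_iff.mpr h1
    exact hp.out.ne_one (hw1.symm.trans this)
  obtain ⟨hubC, hub1, hubp⟩ := hub1
  obtain ⟨u, hu, rfl⟩ := hub
  have hSbz : (Sb : Subgroup (G ⧸ N₁)) ≤ Subgroup.centralizer ({π u} : Set (G ⧸ N₁)) := fun s hs =>
    Subgroup.mem_centralizer_singleton_iff.mpr (Subgroup.mem_centralizer_iff.mp hubC s hs)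
  have hne : Subgroup.centralizer ({π u} : Set (G ⧸ N₁)) ≠ ⊤ := by
    intro h
    have hc : π u ∈ Subgroup.center (G ⧸ N₁) := Subgroup.mem_center_iff.mpr fun g =>
      Subgroup.mem_centralizer_singleton_iff.mp (h ▸ Subgroup.mem_top g)
    haveI : (Subgroup.zpowers (π u)).Normal := ⟨fun a ha g => by
      obtain ⟨i, rfl⟩ := Subgroup.mem_zpowers_iff.mp ha
      rw [Subgroup.mem_center_iff.mp (zpow_mem hc i) g, mul_inv_cancel_right]
      exact zpow_mem (Subgroup.mem_zpowers _) i⟩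
    have hle : (Subgroup.zpowers (π u)).comap π ≤ U := by
      intro w hw
      obtain ⟨i, hi⟩ := Subgroup.mem_zpowers_iff.mp (Subgroup.mem_comap.mp hw)
      have h1 : w * (u ^ i)⁻¹ ∈ N₁ := by
        rw [← hker, MonoidHom.mem_ker, map_mul, map_inv, map_zpow, hi, mul_inv_cancel]
      have := U.mul_mem (hN₁U h1) (U.zpow_mem hu i)
      rwa [inv_mul_cancel_right] at this
    haveI : ((Subgroup.zpowers (π u)).comap π).Normal := inferInstance
    have h2 : u ∈ N₁ := Subgroup.normal_le_normalCore.mpr hle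
      (Subgroup.mem_comap.mpr (Subgroup.mem_zpowers _))
    exact hub1 (MonoidHom.mem_ker.mp (hker.symm ▸ h2 : u ∈ π.ker))
  set Hb := H.map π with hHb
  -- the hypotheses in the quotient
  have hNSb : Subgroup.normalizer ((Sb : Subgroup (G ⧸ N₁)) : Set (G ⧸ N₁)) ≤ Hb := by
    intro w hw
    obtain ⟨x, rfl⟩ := hπs w
    refine ⟨x, hNSH ?_, rfl⟩
    rw [Subgroup.mem_normalizer_iff]
    intro s
    have h1 := Subgroup.mem_normalizer_iff.mp hw (π s)
    rw [← map_inv, ← map_mul, ← map_mul, hSbe] at h1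
    refine ⟨fun hs => hSpre _ (hSbe ▸ h1.mp ⟨s, hs, rfl⟩),
      fun hs => hSpre _ (hSbe ▸ h1.mpr ⟨_, hs, rfl⟩)⟩
  have hoverb : ∀ Y : Subgroup (G ⧸ N₁), (Sb : Subgroup (G ⧸ N₁)) ≤ Y → Y ≠ ⊤ →
      ∀ (B : Subgroup (G ⧸ N₁)) (y : G ⧸ N₁), y ∈ Y → B ≤ Sb → cj y B ≤ Sb →
        Good (MonoidHom.id _) Hb B y := by
    intro Y hSY hY B y hy hB hyB
    obtain ⟨x, rfl⟩ := hπs y
    obtain ⟨h, hh, hha⟩ := hover (Y.comap π) (fun s hs => hSY (hSbe ▸ ⟨s, hs, rfl⟩))
      (fun e => hY (by rw [← Subgroup.map_comap_eq_self_of_surjective hπs Y, e,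
        Subgroup.map_top_of_surjective π hπs]))
      (B.comap π) x hy (fun b hb => hSpre b (hB hb)) (by
        rintro _ ⟨b, hb, rfl⟩
        refine hSpre _ (hyB ?_)
        exact ⟨π b, hb, by simp⟩)
    refine ⟨π h, ⟨h, hh, rfl⟩, fun a ha => ?_⟩
    obtain ⟨b, rfl⟩ := hπs a
    have := congrArg π (hha b ha)
    simpa using this
  by_contra hno
  push Not at hno
  refine hbad₀ (good_of_quotient S N₁ hN₁U hover (fun B y hB hyB => ?_) hA₀ hgA₀)
  rw [← hSbe] at hB hyB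
  exact good_of_no_data hp2 l Sb Hb hNSb (hUbS ⟨u, hu, rfl⟩) hSbz hne hubp hoverb
    (fun huc => by
      rw [hSbe]
      exact exists_quadratic_quotient hp2 S hu N₁ hN₁U
        (fun W _ hW => Subgroup.normal_le_normalCore.mpr hW) hub1 hubp (hSbe ▸ hSbz) huc)
    (fun Q hQ k hk hkQ D => by
      obtain ⟨h, hh, rfl⟩ := hk
      refine hno h hh (Q.comap π) (fun q hq => hSpre q (hQ hq)) ?_ u hu (D.comap π hπs rfl rfl)
      rw [Subgroup.mem_normalizer_iff]
      intro q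
      have h1 := Subgroup.mem_normalizer_iff.mp hkQ (π q)
      rw [← map_inv, ← map_mul, ← map_mul] at h1
      exact h1) hB hyB

/-- **Failure of control of fusion gives data.** -/
theorem exists_data (hp2 : p ≠ 2) (l : (ZMod p)ˣ) (S : Sylow p G)
    {A₀ : Subgroup G} {g₀ : G} (hA₀ : A₀ ≤ S) (hgA₀ : cj g₀ A₀ ≤ S)
    (hbad₀ : ¬ Good (MonoidHom.id G) (Subgroup.normalizer (ZJ.zJ 0 (S : Subgroup G) : Set G)) A₀ g₀) :
    ∃ h ∈ Subgroup.normalizer (ZJ.zJ 0 (S : Subgroup G) : Set G), ∃ Q : Subgroup G,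
      Q ≤ S ∧ h ∈ Subgroup.normalizer (Q : Set G) ∧
      ∃ u ∈ ZJ.zJ 0 (S : Subgroup G), RawData l u h Q := by
  classical
  haveI := Fintype.ofFinite (Subgroup G)
  set H := Subgroup.normalizer (ZJ.zJ 0 (S : Subgroup G) : Set G) with hH
  obtain ⟨Y, hY, hmin⟩ := Finset.exists_min_image
    (Finset.univ.filter fun Y : Subgroup G => (S : Subgroup G) ≤ Y ∧ ∃ (B : Subgroup G) (y : G),
      y ∈ Y ∧ B ≤ S ∧ cj y B ≤ S ∧ ¬ Good (MonoidHom.id G) (H ⊓ Y) B y)
    (fun Y => Nat.card Y)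
    ⟨⊤, Finset.mem_filter.mpr ⟨Finset.mem_univ _, le_top, A₀, g₀, Subgroup.mem_top _, hA₀, hgA₀, by rwa [inf_top_eq]⟩⟩
  simp only [Finset.mem_filter, Finset.mem_univ, true_and] at hY hmin
  obtain ⟨hSY, B, y, hy, hB, hyB, hbad⟩ := hY
  set T := S.subtype hSY with hT
  have hTe : (T : Subgroup Y).map Y.subtype = (S : Subgroup G) := by
    rw [hT, Sylow.coe_subtype, Subgroup.map_subgroupOf_eq_of_le hSY]
  set H' := Subgroup.normalizer (ZJ.zJ 0 (T : Subgroup Y) : Set Y) with hH'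
  have hH'H : ∀ k ∈ H', (k : G) ∈ H := fun k hk => by
    have h := Subgroup.le_normalizer_map Y.subtype ⟨k, hk, rfl⟩
    rwa [ZJ.map_zJ 0 Y.subtype Y.subtype_injective.injOn, hTe] at h
  have hmemT : ∀ w : Y, w ∈ (T : Subgroup Y) ↔ (w : G) ∈ (S : Subgroup G) := fun w => by
    rw [← hTe, Subgroup.mem_map]
    exact ⟨fun h => ⟨w, h, rfl⟩, fun ⟨v, hv, e⟩ => Subtype.ext e ▸ hv⟩
  have hdown : ∀ (B' : Subgroup Y) (w : Y), Good (MonoidHom.id Y) H' B' w →
      Good (MonoidHom.id G) (H ⊓ Y) (B'.map Y.subtype) (w : G) := by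
    rintro B' w ⟨k, hk, hka⟩
    refine ⟨k, ⟨hH'H k hk, k.2⟩, ?_⟩
    rintro _ ⟨a, ha, rfl⟩
    exact congrArg Subtype.val (hka a ha)
  have hov : ∀ Y₀ : Subgroup Y, (T : Subgroup Y) ≤ Y₀ → Y₀ ≠ ⊤ →
      ∀ (B' : Subgroup Y) (w : Y), w ∈ Y₀ → B' ≤ T → cj w B' ≤ T → Good (MonoidHom.id Y) H' B' w := by
    intro Y₀ hTY₀ hY₀ B' w hw hB' hwB'
    by_contra hnb
    have hlt : Nat.card (Y₀.map Y.subtype) < Nat.card Y := by
      refine card_lt_card (lt_of_le_of_ne (Subgroup.map_subtype_le _) fun e => hY₀ ?_)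
      apply Subgroup.map_injective Y.subtype_injective
      rw [← MonoidHom.range_eq_map, Subgroup.range_subtype]
      exact e
    refine absurd (hmin (Y₀.map Y.subtype) ⟨hTe ▸ Subgroup.map_mono hTY₀, B'.map Y.subtype, w,
      ⟨w, hw, rfl⟩, hTe ▸ Subgroup.map_mono hB',
      (cj_map_subtype B' w).le.trans (hTe ▸ Subgroup.map_mono hwB'), fun hg => hnb ?_⟩) (not_le.mpr hlt)
    obtain ⟨k, ⟨hk, hkY₀⟩, hka⟩ := hg
    have hkY : k ∈ Y := Subgroup.map_subtype_le _ hkY₀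
    refine ⟨⟨k, hkY⟩, ?_, fun a ha => Subtype.ext (hka a ⟨a, ha, rfl⟩)⟩
    rw [hH', Subgroup.mem_normalizer_iff_map_conj_eq]
    apply Subgroup.map_injective Y.subtype_injective
    show (cj (⟨k, hkY⟩ : Y) _).map Y.subtype = _
    rw [← cj_map_subtype, ZJ.map_zJ 0 Y.subtype Y.subtype_injective.injOn, hTe]
    exact cj_eq_of_mem_normalizer hk
  obtain ⟨h, hh, Q, hQ, hhQ, u, hu, D⟩ := exists_data_of_minimal hp2 l T hov
    (A₀ := B.subgroupOf Y) (g₀ := ⟨y, hy⟩) (fun b hb => (hmemT b).mpr (hB hb))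
    (by
      rintro _ ⟨b, hb, rfl⟩
      exact (hmemT _).mpr (hyB (conj_mem_cj (g := y) hb)))
    (fun hg => hbad (by
      have h1 := hdown _ _ hg
      rwa [Subgroup.map_subgroupOf_eq_of_le (hB.trans hSY)] at h1))
  refine ⟨h, hH'H h hh, Q.map Y.subtype, hTe ▸ Subgroup.map_mono hQ,
    Subgroup.le_normalizer_map Y.subtype ⟨h, hhQ, rfl⟩, u, ?_,
    D.map Y.subtype Y.subtype_injective (h := (h : G)) fun q _ => rfl⟩
  rw [← hTe, ← ZJ.map_zJ 0 Y.subtype Y.subtype_injective.injOn]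
  exact ⟨u, hu, rfl⟩

end CfsgLib.ZJFail
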